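import Cfsg.Agent.JS.Def

/-! # Basic facts on `T`, `U`, `E`, `F` -/

set_option autoImplicit false
set_option linter.unusedVariables false
set_option linter.unusedSectionVars false

namespace Cfsg.Agent.JS
open Cfsg Cfsg.Agent.BG Subgroup PHom
open Cfsg.Agent.Comp (QS CompIn)
open Cfsg.Agent.S3F (p2 SCl)
open Cfsg.Agent.GF (Lx Pr Cp Tr bar ih_all)

universe u

variable {G : Type u} [Group G] [Finite G] {ι : Sg →* G} {H I K P R R' U V X Y : Subgroup G} {x y : Sg}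
  {a b g w : G} {p : ℕ}

instance (t : Sg) : DecidablePred (· ∈ C1[t]) := fun y => decidable_of_iff (y * t = t * y) mem_C1.symm

theorem inv_T : ∀ x : Sg, x * x = 1 → x ∉ T0 → ∀ y, y * y = 1 → x * y = y * x → y ∈ Z0 ∨ x * y ∈ Z0 := by
  decide +kernel
theorem cardC' : ∀ t : Sg, t * t = 1 → t ∉ U0 → (Sg.all.filter (· ∈ C1[t])).length = 16 := by decide +kernel
theorem cardC (h1 : x * x = 1) (h2 : x ∉ U0) : #C1[x] = 16 := (card_sub _).trans (cardC' x h1 h2)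
theorem C_U' : ∀ t ∈ U0, t ∉ Z0 → ∀ y, y * t = t * y ↔ y ∈ T0 := by decide +kernel
theorem C_U (h1 : x ∈ U0) (h2 : x ∉ Z0) : C1[x] = T0 := Subgroup.ext fun y => mem_C1.trans (C_U' x h1 h2 y)
theorem C_E' : ∀ t ∈ T0, t * t = 1 → t ∉ U0 →
    (∀ y, y * t = t * y ↔ y ∈ E0) ∨ ∀ y, y * t = t * y ↔ y ∈ F0 := by decide +kernel
theorem C_E (h0 : x ∈ T0) (h1 : x * x = 1) (h2 : x ∉ U0) : C1[x] = E0 ∨ C1[x] = F0 :=
  (C_E' x h0 h1 h2).imp (fun e => Subgroup.ext fun y => mem_C1.trans (e y))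
    fun e => Subgroup.ext fun y => mem_C1.trans (e y)
theorem ZT' : ∀ x ∈ T0, (∀ y ∈ T0, y * x = x * y) ↔ x ∈ U0 := by decide +kernel
theorem U_T : U0 ≤ T0 := fun x => (by decide +kernel : ∀ x ∈ U0, x ∈ T0) x
theorem U_E : U0 ≤ E0 := fun x => (by decide +kernel : ∀ x ∈ U0, x ∈ E0) x
theorem U_F : U0 ≤ F0 := fun x => (by decide +kernel : ∀ x ∈ U0, x ∈ F0) x
theorem U_Q : U0 ≤ Q0 := fun x => (by decide +kernel : ∀ x ∈ U0, x ∈ Q0) x
theorem E_T : E0 ≤ T0 := fun x => (by decide +kernel : ∀ x ∈ E0, x ∈ T0) x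
theorem F_T : F0 ≤ T0 := fun x => (by decide +kernel : ∀ x ∈ F0, x ∈ T0) x
theorem Z_U : Z0 ≤ U0 := fun x => (by decide +kernel : ∀ x ∈ Z0, x ∈ U0) x
theorem ZT : Z[T0] = U0 := Subgroup.ext fun x =>
  ⟨fun a => (ZT' x a.1).1 (mem_C.1 a.2), fun a => ⟨U_T a, mem_C.2 ((ZT' x (U_T a)).2 a)⟩⟩
theorem z_U : z0 ∈ U0 := by decide
theorem v_U : v0 ∈ U0 := by decide
theorem vz_U : v0 * z0 ∈ U0 := by decide
theorem z_Z : z0 ∈ Z0 := by decide
theorem ab_of (A : Subgroup Sg) (h1 : ∀ x ∈ A, ∀ y ∈ A, x * y = y * x) (h2 : ∀ x ∈ A, x * x = 1) : Abelem 2 A :=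
  ⟨le_C_iff.2 h1, fun x a => (pow_two x).trans (h2 x a)⟩
theorem ab_U : Abelem 2 U0 := ab_of _ (by decide +kernel) (by decide +kernel)
theorem ab_E : Abelem 2 E0 := ab_of _ (by decide +kernel) (by decide +kernel)
theorem ab_F : Abelem 2 F0 := ab_of _ (by decide +kernel) (by decide +kernel)
theorem ab_Z : Abelem 2 Z0 := ab_U.of_le Z_U
theorem n_of (A : Subgroup Sg) (h : ∀ s, ∀ x ∈ A, s * x * s⁻¹ ∈ A) : ⊤ ≤ N[A] := le_N_iff.2 fun s _ => h s
theorem n_T : ⊤ ≤ N[T0] := n_of _ (by decide +kernel)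
theorem n_U : ⊤ ≤ N[U0] := n_of _ (by decide +kernel)
theorem n_Q : ⊤ ≤ N[Q0] := n_of _ (by decide +kernel)
theorem Z0_eq : Z0 = zpowers z0 :=
  (eq_zpowers_of_prime (card_Z0.symm ▸ p2) z_Z (by decide)).symm
theorem rg_norm {A : Subgroup Sg} (h : ⊤ ≤ N[A]) : ι.range ≤ N[A.map ι] := by
  rw [MonoidHom.range_eq_map]; exact norm_map h ι
theorem map_Z : Z0.map ι = zpowers (ι z0) := by rw [Z0_eq, MonoidHom.map_zpowers]
theorem map_C1 (x : Sg) : C1[x].map ι ≤ C1[ι x] := by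
  rintro _ ⟨y, a, rfl⟩
  rw [mem_C1, ← map_mul, ← map_mul, mem_C1.1 a]
theorem T_cU : T0.map ι ≤ C[U0.map ι] := cent_map (ZT ▸ cent_symm inf_le_right) ι
theorem T_c (h : a ∈ U0.map ι) : T0.map ι ≤ C1[a] := T_cU.trans (C_le_C1 h)
theorem mem_U (h : a ∈ U0.map ι) (a1 : a ≠ 1) : a = ι z0 ∨ a = ι v0 ∨ a = ι (v0 * z0) := by
  obtain ⟨x, b, rfl⟩ := h
  rcases (mem_U0 x).1 b with rfl | rfl | rfl | rfl
  exacts [(a1 (map_one ι)).elim, .inl rfl, .inr (.inl rfl), .inr (.inr rfl)]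
theorem cjsq (e : g * ι x * g⁻¹ = a) (h : x * x = 1) : a * a = 1 := by
  rw [← e, show g * ι x * g⁻¹ * (g * ι x * g⁻¹) = g * ι (x * x) * g⁻¹ by rw [map_mul]; group, h]; simp

/-- the map induced by conjugation on a part of `Sg` -/
structure Pull (ι : Sg →* G) (g : G) (A : Subgroup Sg) (σ : Sg → Sg) : Prop where
  eq : ∀ x ∈ A, ι (σ x) = g * ι x * g⁻¹
  mul : ∀ x ∈ A, ∀ y ∈ A, σ (x * y) = σ x * σ y
  inj : ∀ x ∈ A, ∀ y ∈ A, σ x = σ y → x = y
  one : σ 1 = 1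

namespace Pull
variable {A : Subgroup Sg} {σ : Sg → Sg} (q : Pull ι g A σ)
include q
theorem ne (a : x ∈ A) (b : y ∈ A) (n : x ≠ y) : σ x ≠ σ y := fun e => n (q.inj x a y b e)
theorem ne1 (a : x ∈ A) (n : x ≠ 1) : σ x ≠ 1 := q.one ▸ q.ne a (one_mem _) n
theorem sq (a : x ∈ A) (e : x * x = y) : σ x * σ x = σ y := by rw [← q.mul x a x a, e]
theorem sq1 (a : x ∈ A) (e : x * x = 1) : σ x * σ x = 1 := (q.sq a e).trans q.one
theorem cm (a : x ∈ A) (b : y ∈ A) (e : x * y = y * x) : σ x * σ y = σ y * σ x := by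
  rw [← q.mul x a y b, ← q.mul y b x a, e]
theorem cj (hg : g ∈ H) (a : x ∈ A) : Cj H (ι x) (ι (σ x)) := ⟨g, hg, (q.eq x a).symm⟩
theorem mem (a : x ∈ A) : ι (σ x) ∈ BG.cj g (A.map ι) := q.eq x a ▸ mem_cj_conj.2 (mem_im a)
end Pull

namespace TJ
variable (h : TJ ι H)
include h

theorem pull {A : Subgroup Sg} (l : BG.cj g (A.map ι) ≤ ι.range) : ∃ σ, Pull ι g A σ := by
  have : ∀ x, ∃ y, x ∈ A → ι y = g * ι x * g⁻¹ := fun x => by
    by_cases a : x ∈ A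
    · obtain ⟨y, e⟩ := l (mem_cj_conj.2 (mem_im a))
      exact ⟨y, fun _ => e⟩
    · exact ⟨1, fun b => (a b).elim⟩
  choose σ e using this
  refine ⟨σ, e, fun x a y b => h.inj ?_, fun x a y b c => h.inj ?_, h.inj ?_⟩
  · rw [map_mul, e _ (mul_mem a b), e x a, e y b, map_mul]; group
  · have := (e x a).symm.trans ((congrArg ι c).trans (e y b))
    simpa using this
  · rw [e 1 (one_mem _)]; simp

theorem inf_C1 (x : Sg) : ι.range ⊓ C1[ι x] = C1[x].map ι := by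
  refine le_antisymm ?_ (le_inf (map_le _) (map_C1 x))
  rintro _ ⟨⟨y, rfl⟩, a⟩
  exact mem_im (mem_C1.2 (h.inj (by rw [map_mul, map_mul]; exact mem_C1.1 a)))

theorem ord (e : x * x = 1) (n : x ≠ 1) : orderOf (ι x) = 2 :=
  orderOf_of_pow p2 (by rw [pow_two, ← map_mul, e, map_one]) (h.ne_one n)
theorem ordz : orderOf (ι z0) = 2 := h.ord (by decide) (by decide)

/-- an involution of `S` centralised by more than `16` elements lies in `U` -/
theorem big (e : x * x = 1) (l : X ≤ ι.range) (c : X ≤ C1[ι x]) (n : 16 < #X) : x ∈ U0 := by_contra fun a => by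
  have := card_le ((le_inf l c).trans (h.inf_C1 x).le)
  rw [h.card, cardC e a] at this
  omega

theorem ZT : Z[T0.map ι] = U0.map ι := by
  refine le_antisymm ?_ (le_inf (map_mono U_T) (cent_symm T_cU))
  rintro _ ⟨⟨x, a, rfl⟩, b⟩
  exact mem_im ((ZT' x a).1 fun y c => h.inj (by rw [map_mul, map_mul]; exact mem_C.1 b _ (mem_im c)))

theorem NT_NU : N[T0.map ι] ≤ N[U0.map ι] := h.ZT ▸ normZ le_rfl

/-- `T` is weakly closed -/
theorem normT (l : BG.cj g (T0.map ι) ≤ ι.range) : g ∈ N[T0.map ι] := by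
  obtain ⟨σ, q⟩ := h.pull l
  have k : ∀ x ∈ U0, x ≠ 1 → σ x ∉ Z0 → g ∈ N[T0.map ι] := fun x a x1 n => by
    have c : BG.cj g (T0.map ι) ≤ C1[ι (σ x)] := by
      rw [q.eq x (U_T a), ← cj_C1]; exact cj_mono _ (T_c (mem_im a))
    have m := h.big (q.sq1 (U_T a) ((pow_two x).symm.trans (ab_U.pow x a))) l c (by
      rw [card_cj, h.card, card_T0]; omega)
    exact mem_N_of_cj_le ((le_inf l c).trans (by rw [h.inf_C1, C_U m n]))
  by_cases c : σ z0 ∈ Z0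
  · refine k v0 v_U (by decide) fun d => ?_
    have a := q.ne1 (U_T z_U) (by decide)
    have b := q.ne1 (U_T v_U) (by decide)
    exact q.ne (U_T z_U) (U_T v_U) (by decide)
      ((((mem_Z0 _).1 c).resolve_left a).trans (((mem_Z0 _).1 d).resolve_left b).symm)
  · exact k z0 z_U (by decide) c

/-- the elementary abelian subgroups of order `16` -/
theorem el (l : X ≤ ι.range) (ab : Abelem 2 X) (c : #X = 16) : X = E0.map ι ∨ X = F0.map ι := by
  have sq : ∀ x, ι x ∈ X → x * x = 1 := fun x a => h.inj (by rw [map_mul, ← pow_two, ab.pow _ a, map_one])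
  have key : ∀ x, ι x ∈ X → x ∉ U0 → X = C1[x].map ι := fun x a b =>
    eq_of_card_le ((le_inf l (ab.abel.trans (C_le_C1 a))).trans (h.inf_C1 x).le) (by rw [h.card, cardC (sq x a) b, c])
  obtain ⟨_, a, b⟩ : ∃ w ∈ X, w ∉ U0.map ι := by
    by_contra! d
    have := card_le (show X ≤ U0.map ι from d)
    rw [h.card, card_U0] at this
    omega
  obtain ⟨x, rfl⟩ := l a
  have b' : x ∉ U0 := fun d => b (mem_im d)
  by_cases t : x ∈ T0
  · exact (C_E t (sq x a) b').imp (fun e => by rw [key x a b', e]) fun e => by rw [key x a b', e]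
  · obtain ⟨y, d, e⟩ := (by decide +kernel : ∀ x : Sg, x * x = 1 → x ∉ T0 → ∃ y, y * x = x * y ∧ y * y ≠ 1)
      x (sq x a) t
    exact (e (sq y (key x a b' ▸ mem_im (mem_C1.2 d)))).elim

/-- a conjugate of `z` is extremal only in `z` -/
theorem toZ (e : Cj H (ι x) (ι z0)) :
    ∃ g ∈ H, g * ι x * g⁻¹ = ι z0 ∧ BG.cj g (C1[x].map ι) ≤ ι.range := by
  obtain ⟨k, a, e⟩ := e
  obtain ⟨c, b, d⟩ := h.cz.cj_sub (X := BG.cj k (C1[x].map ι)) (le_inf (cj_le_of_mem (h.mle _) (normG _ a))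
    (by rw [← e, ← cj_C1]; exact cj_mono _ (map_C1 x))) ((map_pig _).cj _)
  refine ⟨c * k, mul_mem b.1 a, ?_, by rwa [cj_mul]⟩
  rw [show c * k * ι x * (c * k)⁻¹ = c * (k * ι x * k⁻¹) * c⁻¹ by group, e, mem_C1.1 b.2, mul_inv_cancel_right]

/-- `N(T)` is transitive on the involutions of `U` -/
theorem trU (zv : Cj H (ι z0) (ι v0)) (ha : a ∈ U0.map ι) (a1 : a ≠ 1) : Cj (H ⊓ N[T0.map ι]) (ι z0) a := by
  obtain ⟨g, b, c, d⟩ := h.toZ zv.symm
  rw [C_U v_U (by decide)] at d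
  have k : Cj (H ⊓ N[T0.map ι]) (ι z0) (ι v0) := Cj.symm ⟨g, ⟨b, h.normT d⟩, c⟩
  rcases mem_U ha a1 with rfl | rfl | rfl
  · exact Cj.refl _ _
  · exact k
  · exact k.trans ⟨ι u0, ⟨h.mem _, rg_norm n_T (mem_rg _)⟩, by
      rw [← map_inv, ← map_mul, ← map_mul]; exact congrArg ι (by decide)⟩

/-- an involution is conjugate into `S` -/
theorem inv_in (hw : w ∈ H) (e : w * w = 1) : ∃ x, x * x = 1 ∧ Cj H w (ι x) := by
  obtain ⟨g, a, b⟩ := h.cj_sub (zpowers_le.2 hw) (pig_zpowers.2 (pie_of_pow p2 ((pow_two w).trans e)))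
  obtain ⟨x, c⟩ := b (mem_cj_conj.2 (mem_zpowers w))
  refine ⟨x, h.inj ?_, g, a, c.symm⟩
  rw [map_mul, c, map_one, show g * w * g⁻¹ * (g * w * g⁻¹) = g * (w * w) * g⁻¹ by group, e]; group

end TJ

end Cfsg.Agent.JS
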