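import Cfsg.Agent.JS.Cz
import Cfsg.Agent.JS.Bas
import Cfsg.Agent.Inv.Count
import Mathlib.GroupTheory.SpecificGroups.Alternating

/-! # `C(z) / Q ≅ A₅` -/

set_option autoImplicit false
set_option linter.unusedVariables false
set_option linter.unusedSectionVars false

namespace Cfsg.Agent.JS
open Cfsg Cfsg.Agent.BG Subgroup PHom
open Cfsg.Agent.Comp (QS CompIn)
open Cfsg.Agent.S3F (p2 SCl)
open Cfsg.Agent.GF (Lx Pr Cp Tr bar ih_all)

universe u

variable {G : Type u} [Group G] [Finite G] {ι : Sg →* G} {H I K P R R' U V X Y : Subgroup G} {x y : Sg}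
  {a b g w : G} {p : ℕ}

/-- the non-central involutions of `Q` -/
def Nc (x : Sg) : Prop := x ∈ Q0 ∧ x * x = 1 ∧ x ∉ Z0
instance : DecidablePred Nc := fun _ => inferInstanceAs (Decidable (_ ∧ _ ∧ _))
/-- the five pairs `{x, x z}` -/
def pt (x : Sg) : Fin 5 := if x.e then (if x.a.1 then (if x.a.2 then 4 else 2) else (if x.a.2 then 3 else 1)) else 0
def rp : Fin 5 → Sg
  | 0 => v0
  | 1 => u0
  | 2 => ⟨1, 1, 0, true⟩
  | 3 => ⟨F4.w, F4.cj F4.w, 0, true⟩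
  | 4 => ⟨F4.cj F4.w, F4.w, 0, true⟩
theorem nc_rp : ∀ i, Nc (rp i) := by decide +kernel
theorem pt_rp : ∀ i, pt (rp i) = i := by decide +kernel
theorem pt_z : ∀ x, pt (x * z0) = pt x := by decide +kernel
theorem nc_eq : ∀ x, Nc x → x = rp (pt x) ∨ x = rp (pt x) * z0 := by decide +kernel
theorem pt_eq : ∀ x, Nc x → ∀ y, Nc y → pt x = pt y → y * x⁻¹ ∈ Z0 := by decide +kernel
theorem nc_gen : ∀ x ∈ Q0, Nc x ∨ ∃ a, Nc a ∧ Nc (a * x) := by decide +kernel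
theorem pt_ker : ∀ s, (∀ i, pt (s * rp i * s⁻¹) = i) ↔ s ∈ Q0 := by decide +kernel
theorem pt_tr : ∀ i, i = 0 ∨ ∃ s, pt (s * u0 * s⁻¹) = i := by decide +kernel
theorem pt_ev : ∀ s, ∃ e ∈ [1, Equiv.swap (1 : Fin 5) 2 * Equiv.swap 3 4, Equiv.swap 1 3 * Equiv.swap 2 4,
    Equiv.swap 1 4 * Equiv.swap 2 3], ∀ i, pt (s * rp i * s⁻¹) = e i := by decide +kernel
theorem pt_cj : ∀ x, x * x = 1 → x ∉ Q0 → ∀ y, y * y = 1 → y ∉ Q0 → ∃ e ∈ [1, Equiv.swap (2 : Fin 5) 3 * Equiv.swap 3 4,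
    Equiv.swap 3 4 * Equiv.swap 2 3], ∀ i, e (pt (x * rp i * x⁻¹)) = pt (y * rp (e i) * y⁻¹) := by decide +kernel
theorem cos_cj : ∀ y, y * y = 1 → y ∉ Q0 → ∀ q ∈ Q0, y * q * (y * q) = 1 → ∃ s, s * (y * q) * s⁻¹ = y := by
  decide +kernel
theorem cen_Q : ∀ t : Sg, (∀ x ∈ Q0, x * t = t * x) → t ∈ Z0 := by decide +kernel

theorem cZ (c : H ≤ C1[ι z0]) : H ≤ C[Z0.map ι] := by rwa [map_Z, C_zpowers]

theorem TJ.nQ (h : TJ ι H) (c : H ≤ C1[ι z0]) (o : O[{2}ᶜ](H) = ⊥) : H ≤ N[Q0.map ι] :=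
  (h.normQ c).trans (sup_le (o ▸ bot_le) inf_le_right)

theorem TJ.ncj (h : TJ ι H) (c : H ≤ C1[ι z0]) (n : H ≤ N[Q0.map ι]) (hg : g ∈ H) (a : Nc x) :
    ∃ y, Nc y ∧ g * ι x * g⁻¹ = ι y := by
  obtain ⟨y, b, e⟩ := conj_mem (n hg) (mem_im a.1)
  refine ⟨y, ⟨b, h.inj (by rw [map_mul, map_one]; exact cjsq e.symm a.2.1), fun d => a.2.2 ?_⟩, e.symm⟩
  have k := mem_C.1 (cZ c hg) _ (mem_im d)
  rw [eq_mul_inv_iff_mul_eq, k, mul_right_inj, h.eq] at e
  exact e ▸ d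

theorem TJ.act (h : TJ ι H) (c : H ≤ C1[ι z0]) (n : H ≤ N[Q0.map ι]) :
    ∃ f : H →* Equiv.Perm (Fin 5), ∀ g : H, ∀ x y, Nc x → g * ι x * (g : G)⁻¹ = ι y → f g (pt x) = pt y := by
  have : ∀ g : H, ∀ x, ∃ y, Nc x → Nc y ∧ g * ι x * (g : G)⁻¹ = ι y := fun g x => by
    by_cases a : Nc x
    · exact (h.ncj c n g.2 a).imp fun _ k _ => k
    · exact ⟨1, fun b => (a b).elim⟩
  choose σ e using this
  have key : ∀ g : H, ∀ x y, Nc x → g * ι x * (g : G)⁻¹ = ι y → pt (σ g (rp (pt x))) = pt y := fun g x y a b => by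
    have k := (e g _ (nc_rp (pt x))).2
    rcases nc_eq x a with d | d
    · rw [← d] at k ⊢
      rw [h.inj (k.symm.trans b)]
    · have : y = σ g (rp (pt x)) * z0 := h.inj (by
        rw [map_mul, ← k, ← b, mul_assoc _ _ (ι z0), mem_C1.1 (c (inv_mem g.2)), d, map_mul, pt_z, pt_rp]; group)
      rw [this, pt_z]
  let _ : MulAction H (Fin 5) :=
    { smul := fun g i => pt (σ g (rp i))
      one_smul := fun i => show pt (σ 1 (rp i)) = i by simpa [pt_rp] using key 1 _ (rp i) (nc_rp i) (by simp)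
      mul_smul := fun g k i => by
        have a := e k _ (nc_rp i)
        have b := e g _ a.1
        refine Eq.trans ?_ (key g _ _ a.1 b.2).symm
        change pt (σ (g * k) (rp i)) = _
        simpa [pt_rp] using key (g * k) _ _ (nc_rp i) (by rw [← b.2, ← a.2]; simp [mul_assoc]) }
  exact ⟨MulAction.toPermHom H (Fin 5), key⟩

/-- the centraliser of `Q` -/
theorem TJ.cQ (h : TJ ι H) (c : H ≤ C1[ι z0]) (o : O[{2}ᶜ](H) = ⊥) : H ⊓ C[Q0.map ι] ≤ Z0.map ι := by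
  have n : H ≤ N[H ⊓ C[Q0.map ι]] := normI (normG H) (normC (h.nQ c o))
  have s := h.syl.inf_norm' inf_le_left n
  have l : ι.range ⊓ (H ⊓ C[Q0.map ι]) ≤ Z0.map ι := fun _ hx => by
    obtain ⟨⟨x, rfl⟩, -, a⟩ := hx
    exact mem_im (cen_Q x fun y b => h.inj (by rw [map_mul, map_mul]; exact mem_C.1 a _ (mem_im b)))
  have d := (burnside p2 s (inf_le_left.trans (inf_le_left.trans ((cZ c).trans (centS l))))).sdprod s
  exact d.sup.ge.trans (sup_le ((O_le_of_normal _ inf_le_left n).trans (o ▸ bot_le)) l)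

theorem TJ.a5' (h : TJ ι H) (c : H ≤ C1[ι z0]) (o : O[{2}ᶜ](H) = ⊥) (uv : Cj H (ι u0) (ι v0)) :
    ∃ f : H →* alternatingGroup (Fin 5), Function.Surjective f ∧ f.ker = (Q0.map ι).subgroupOf H ∧
      ∀ s i, (f ⟨ι s, h.mem s⟩).1 i = pt (s * rp i * s⁻¹) := by
  have n := h.nQ c o
  obtain ⟨f, e⟩ := h.act c n
  have fs : ∀ s i, f ⟨ι s, h.mem s⟩ i = pt (s * rp i * s⁻¹) := fun s i => by
    simpa [pt_rp] using e ⟨ι s, h.mem s⟩ _ (s * rp i * s⁻¹) (nc_rp i) (by simp)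
  have ev : ∀ g, f g ∈ alternatingGroup (Fin 5) := by
    have l : ι.range.subgroupOf H ≤ (alternatingGroup (Fin 5)).comap f := by
      rintro ⟨_, a⟩ ⟨s, rfl⟩
      obtain ⟨e, b, d⟩ := pt_ev s
      rw [mem_comap, show f ⟨ι s, a⟩ = e from Equiv.ext fun i => (fs s i).trans (d i), Equiv.Perm.mem_alternatingGroup]
      simp only [List.mem_cons, List.not_mem_nil, or_false] at b
      rcases b with rfl | rfl | rfl | rfl <;> simp [Equiv.Perm.sign_swap']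
    have a := index_dvd_of_le l
    have b : ((alternatingGroup (Fin 5)).comap f).index ∣ 2 :=
      alternatingGroup.index_eq_two (α := Fin 5) ▸ index_comap (alternatingGroup (Fin 5)) f ▸ relIndex_dvd_index_of_normal _ _
    rcases (Nat.dvd_prime p2).1 b with d | d
    · exact fun g => (index_eq_one.1 d).ge (mem_top g)
    · exact (h.syl.not_dvd p2 (d ▸ a)).elim
  have k : f.ker = (Q0.map ι).subgroupOf H := by
    refine le_antisymm ?_ ?_
    swap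
    · rintro ⟨_, a⟩ ⟨s, b, rfl⟩
      exact Equiv.ext fun i => (fs s i).trans ((pt_ker s).2 b i)
    have l : f.ker.map H.subtype ≤ H := map_subtype_le _
    have nK : H ≤ N[f.ker.map H.subtype] := Core.le_normalizer_map_subtype_of_normal _
    have k1 : ∀ g ∈ f.ker.map H.subtype, ∀ x, Nc x → g * ι x * g⁻¹ * (ι x)⁻¹ ∈ Z0.map ι := by
      rintro _ ⟨g, a, rfl⟩ x b
      obtain ⟨y, d, e1⟩ := h.ncj c n g.2 b
      have := e g x y b e1
      rw [show f g = 1 from a] at this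
      rw [coe_subtype, e1, ← map_inv, ← map_mul]
      exact mem_im (pt_eq x b y d this)
    have k2 : ⁅Q0.map ι, f.ker.map H.subtype⁆ ≤ Z0.map ι := (commC _ _).le.trans (comm_le_iff.2 (by
      rintro g a _ ⟨x, b, rfl⟩
      rcases nc_gen x b with d | ⟨y, d, d'⟩
      · exact k1 g a x d
      · have := mul_mem (inv_mem (k1 g a y d)) (k1 g a _ d')
        rw [map_mul] at this
        convert conj_mem (cents_norm (cZ c) (inv_mem (h.mem y))) this using 1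
        group))
    have p : PiG {2} (f.ker.map H.subtype) := S3F.pig2_of fun w a b => by
      have pz := pig_zpowers.2 b
      have := h.cQ c o ⟨l a, cent_symm (cop_stable (pz.coprime' (map_pig Z0))
        ((commS le_rfl (zpowers_le.2 a)).trans k2) (cent_symm ((zpowers_le.2 (l a)).trans (cZ c)))) (mem_zpowers w)⟩
      exact zpowers_eq_bot.1 (((map_pig Z0).of_le (zpowers_le.2 this)).eq_bot pz)
    intro g a
    obtain ⟨s, d⟩ := h.syl.le_of_norm' p l (h.le.trans nK) (mem_map_of_mem _ a)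
    obtain rfl : g = ⟨ι s, h.mem s⟩ := Subtype.ext d.symm
    exact mem_im ((pt_ker s).1 fun i => (fs s i).symm.trans (by rw [show f _ = 1 from a]; rfl))
  refine ⟨f.codRestrict _ ev, ?_, by rw [MonoidHom.ker_codRestrict, k], fs⟩
  rw [← MonoidHom.range_eq_top]
  by_contra ne
  have c1 := Inv.card_dvd_factorial_index _ ne
  have c2 := (f.codRestrict _ ev).range.card_mul_index
  rw [← index_ker, MonoidHom.ker_codRestrict] at c2
  have c3 : 4 ∣ f.ker.index := by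
    have a := f.ker.card_mul_index
    have b := cardS h.le
    rw [k, Nat.card_congr (subgroupOfEquivOfLe (h.mle Q0)).toEquiv, h.card, card_Q0, ← k] at a
    rw [h.card_rg, ← a] at b
    omega
  have c4 : 5 ∣ f.ker.index := by
    let _ := MulAction.compHom (Fin 5) f
    have a := MulAction.index_stabilizer H (0 : Fin 5)
    obtain ⟨g, g1, g2⟩ := uv.symm
    rw [Set.eq_univ_iff_forall.2 (show ∀ i, i ∈ MulAction.orbit H (0 : Fin 5) from fun i => by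
      rcases pt_tr i with rfl | ⟨s, rfl⟩
      · exact MulAction.mem_orbit_self _
      · exact ⟨⟨ι s * g, mul_mem (h.mem s) g1⟩, e _ v0 _ (nc_rp 0) (by
          rw [map_mul, map_mul, map_inv, ← g2]; group)⟩), Set.ncard_univ, Nat.card_fin] at a
    exact a.symm.dvd.trans <| index_dvd_of_le fun g b => show f g 0 = 0 by rw [MonoidHom.mem_ker.1 b]; rfl
  rw [nat_card_alternatingGroup, Nat.card_fin] at c1 c2
  obtain ⟨m, hm⟩ := (by decide : Nat.Coprime 4 5).mul_dvd_of_dvd_of_dvd c3 c4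
  generalize (f.codRestrict _ ev).range.index = r at *
  have : r ∣ 3 := ⟨m, by simp [Nat.factorial] at c2; nlinarith⟩
  rcases (Nat.dvd_prime Nat.prime_three).1 this with rfl | rfl <;> simp [Nat.factorial] at c1

theorem TJ.a5 (h : TJ ι H) (c : H ≤ C1[ι z0]) (o : O[{2}ᶜ](H) = ⊥) (uv : Cj H (ι u0) (ι v0)) :
    ∃ f : H →* alternatingGroup (Fin 5), Function.Surjective f ∧ f.ker = (Q0.map ι).subgroupOf H :=
  (h.a5' c o uv).imp fun _ k => ⟨k.1, k.2.1⟩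

theorem TJ.ee0 (h : TJ ι H) (c : H ≤ C1[ι z0]) (o : O[{2}ᶜ](H) = ⊥) (uv : Cj H (ι u0) (ι v0)) (x2 : x * x = 1)
    (xQ : x ∉ Q0) (y2 : y * y = 1) (yQ : y ∉ Q0) : Cj H (ι x) (ι y) := by
  obtain ⟨f, f1, f2, f3⟩ := h.a5' c o uv
  obtain ⟨e, a, b⟩ := pt_cj x x2 xQ y y2 yQ
  obtain ⟨g, d⟩ := f1 ⟨e, Equiv.Perm.mem_alternatingGroup.2 (by
    simp only [List.mem_cons, List.not_mem_nil, or_false] at a
    rcases a with rfl | rfl | rfl <;> simp [Equiv.Perm.sign_swap'])⟩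
  have : (⟨ι y, h.mem y⟩ : H)⁻¹ * (g * ⟨ι x, h.mem x⟩ * g⁻¹) ∈ f.ker := by
    rw [MonoidHom.mem_ker, map_mul, map_inv, inv_mul_eq_one, map_mul, map_inv, eq_mul_inv_iff_mul_eq, map_mul, d]
    exact Subtype.ext (Equiv.ext fun i => (f3 y (e i)).trans ((b i).symm.trans (congrArg e (f3 x i).symm)))
  rw [f2] at this
  obtain ⟨q, q1, q2⟩ := this
  have e1 : g * ι x * (g : G)⁻¹ = ι (y * q) := by rw [map_mul, q2]; simp
  exact Cj.trans ⟨g, g.2, e1⟩ (h.cj' (cos_cj y y2 yQ q q1 (h.inj (by rw [map_mul, map_one]; exact cjsq e1 x2))))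

theorem Cj.app {G' : Type u} [Group G'] {φ : PHom G G'} (h : Cj H a b) (ha : a ∈ H) (d : H ≤ φ.dom) :
    Cj (φ.im H) (φ.app a) (φ.app b) := by
  obtain ⟨g, k, rfl⟩ := h
  exact ⟨_, app_mem_im k (d k), (app_conj (d k) (d ha)).symm⟩

/-- the involutions outside `Q` are conjugate (any `O(H)`) -/
theorem TJ.ee (h : TJ ι H) (c : H ≤ C1[ι z0]) (uv : Cj H (ι u0) (ι v0)) (x2 : x * x = 1) (xQ : x ∉ Q0)
    (y2 : y * y = 1) (yQ : y ∉ Q0) : Cj H (ι x) (ι y) := by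
  have d : H ≤ (quo O[{2}ᶜ](H)).dom := O_norm _ _
  have o : PiG {2}ᶜ (quo O[{2}ᶜ](H)).ker := (quo_ker O[{2}ᶜ](H)).symm ▸ O_pig _ _
  obtain ⟨_, a, b⟩ := (h.push d o).ee0 (by rw [push_app]; exact im_C1 (d (h.mem _)) c) (O_quo_O _ _)
    (by rw [push_app, push_app]; exact uv.app (h.mem _) d) x2 xQ y2 yQ
  obtain ⟨g, g1, rfl⟩ := (mem_im' d).1 a
  have m := conj_mem (normG H g1) (h.mem x)
  rw [push_app, push_app, ← app_conj (d g1) (d (h.mem x)), app_eq_iff (d m) (d (h.mem y))] at b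
  have n1 : ∀ {x : Sg}, x ∉ Q0 → x ≠ 1 := fun a e => a (e ▸ one_mem _)
  have o1 := (Inv.orderOf_conj' g (ι x)).trans (h.ord x2 (n1 xQ))
  rw [Inv.inv_of_ord2 o1] at b
  obtain ⟨k, k1, k2⟩ := Inv.s0208 _ _ o1 (h.ord y2 (n1 yQ)) (GW.odd_iff.1 (o.elt b))
  refine Cj.trans ⟨g, g1, rfl⟩ ⟨k, (closure_le H).2 ?_ k1, k2⟩
  rintro _ (rfl | rfl)
  exacts [m, h.mem y]

end Cfsg.Agent.JS
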