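import Cfsg.Agent.JS.Bas

/-! # Subgroups containing `T` in which `U` is strongly closed -/

set_option autoImplicit false
set_option linter.unusedVariables false
set_option linter.unusedSectionVars false

namespace Cfsg.Agent.JS
open Cfsg Cfsg.Agent.BG Subgroup PHom
open Cfsg.Agent.Comp (QS CompIn)
open Cfsg.Agent.S3F (p2 SCl)
open Cfsg.Agent.GF (Lx Pr Cp Tr bar ih_all)

universe u

variable {G : Type u} [Group G] [Finite G] {ι : Sg →* G} {H I K P R R' U V X Y : Subgroup G} {x y : Sg}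
  {a b g w : G} {p : ℕ}

theorem caA_E : ∀ x ∈ E0, x * x = 1 ∧ x ∈ T0 ∧ ∀ y ∈ E0, x * y = y * x := by decide +kernel
theorem caA_U : ∀ x ∈ U0, x ∈ E0 := by decide +kernel
theorem caA_c : ∀ x ∈ E0, x ∉ U0 → ∃ y ∈ T0, y * x * y⁻¹ * x⁻¹ ∈ U0 ∧ y * x * y⁻¹ * x⁻¹ ≠ 1 := by decide +kernel

theorem TJ.caseA (h : TJ ι H) (l : K ≤ H) (t : T0.map ι ≤ K) (sc : SCl K (U0.map ι)) :
    K ≤ O[{2}ᶜ](K) ⊔ K ⊓ N[U0.map ι] := by
  have aE : Abelem 2 (E0.map ι) := Abelem.map ⟨le_C_iff.2 fun x hx => (caA_E x hx).2.2,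
    fun x hx => (pow_two x).trans (caA_E x hx).1⟩ ι
  have UE : U0.map ι ≤ E0.map ι := map_mono caA_U
  have ET : E0.map ι ≤ T0.map ι := map_mono fun x hx => (caA_E x hx).2.1
  have UK := UE.trans (ET.trans t)
  have c4 : #(U0.map ι) = 4 := (h.card _).trans card_U0
  have lx : Lx.{u} (#K + 1) (U0.map ι) K := ⟨ih_all _, Nat.lt_succ_self _, aE.of_le UE, UK, sc⟩
  refine lx.gen le_sup_left le_sup_right fun L hL h0 => False.elim ?_
  obtain ⟨B, D, X, q⟩ := lx.pr hL h0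
  obtain rfl := eq_of_card_le q.DA (c4.le.trans q.four)
  obtain rfl : B = ⊥ := q.inf ▸ (inf_eq_left.2 q.BA).symm
  have UL := q.DL (lx.nA hL)
  have k : U0.map ι ⊓ (bar K L).ker = ⊥ :=
    eq_bot_iff.2 fun x hx => (q.memB x).2 ⟨hx.1, (hL.mem_ker (UK hx.1)).1 hx.2⟩
  have zU : ι z0 ∈ U0.map ι := mem_im (by decide)
  have TN : T0.map ι ≤ K ⊓ N[L] := le_inf t fun x hx => hL.norm_of_cent (t hx) (UL zU)
    (fun e => h.ne_one (by decide) (mem_bot.1 ((q.memB _).2 ⟨zU, e⟩))) (rg_cen (map_le _ hx))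
  obtain ⟨S, s, TS⟩ := syl_superset p2 TN (map_pig T0)
  have s1 := s.inf_norm' (le_inf hL.le (normG L)) inf_le_right
  have ty := lx.ty q s1 (le_inf (UE.trans (ET.trans TS)) UL)
  have sec := hL.sec lx.ih lx.lt
  have cS : #S ≤ 128 := h.card_rg ▸ h.syl.card_le s.pi (s.le.trans (inf_le_left.trans l))
  have d := hL.bar_dom
  generalize bar K L = φ at *
  have dT := TN.trans d
  have kE : E0.map ι ⊓ φ.ker = ⊥ := eq_bot_iff.2 (by
    intro _ h1
    obtain ⟨⟨x, hx, rfl⟩, e⟩ := mem_inf.1 h1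
    by_cases xU : x ∈ U0
    · exact k.le ⟨mem_im xU, e⟩
    obtain ⟨y, y1, y2, y3⟩ := caA_c x hx xU
    refine (h.ne_one y3 (mem_bot.1 (k.le (mem_inf.2 ⟨mem_im y2, ?_⟩)))).elim
    simp only [map_mul, map_inv]
    exact mul_mem (conj_mem (dom_norm_ker (dT (mem_im y1))) e) (inv_mem e))
  have cE : #(φ.im (E0.map ι)) = 16 := (card_im_inj (ET.trans dT) kE).trans ((h.card _).trans card_E0)
  have cU : #(φ.im (U0.map ι)) = 4 := (card_im_inj (UE.trans (ET.trans dT)) k).trans c4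
  have aV := aE.im φ
  have UV : φ.im (U0.map ι) ≤ φ.im (E0.map ι) := im_mono UE
  have VS : φ.im (E0.map ι) ≤ φ.im S := im_mono (ET.trans TS)
  have VX : φ.im (E0.map ι) ≤ φ.im (K ⊓ N[L]) := im_mono (ET.trans TN)
  have QS : φ.im (S ⊓ L) ≤ φ.im S := im_mono inf_le_left
  have nQ : φ.im (E0.map ι) ≤ N[φ.im (S ⊓ L)] :=
    im_norm (normI (normsG (ET.trans TS)) (ET.trans (TN.trans inf_le_right)))
  have c2 := (Nat.le_of_dvd (card_pos _) (card_im_dvd (φ := φ) S)).trans cS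
  generalize φ.im (E0.map ι) = V at *
  generalize φ.im (U0.map ι) = Z at *
  generalize φ.im (S ⊓ L) = Q at *
  generalize φ.im L = I at *
  rcases ty.u34 cU with rfl | ⟨c, -⟩
  · have nI := VX.trans sec.nI
    have l1 : I ⊔ V ≤ φ.im (K ⊓ N[L]) := sup_le sec.le VX
    have := (⟨sec.ih, sec.qs, le_sup_left, l1.trans sec.nI, eq_bot_iff.2 (sec.fa ▸ inf_le_inf_right _ l1),
      sec.lt⟩ : GF.Sec _ (I ⊔ V) I).vz le_sup_right aV fun R r1 r2 r3 x _ g _ e => by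
        refine ((le_inf r1 le_rfl).trans ((modr_l nI r3).le.trans (sup_le ?_ le_rfl)) : R ≤ V) e
        exact (ty.syl.max (r2.of_le inf_le_right) inf_le_left (le_inf ty.syl.le (UV.trans r3))).le.trans UV
    have := ty.syl.card_le (aV.pig p2) this
    omega
  · have e := (isProd_l nQ).card
    have c3 := card_le (sup_le QS VS)
    have c5 := card_le (show Q ⊓ V ≤ Z from fun x hx => (ty.inv x hx.1).1 ((pow_two x).symm.trans (aV.pow x hx.2)))
    rw [c, cE] at e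
    nlinarith

end Cfsg.Agent.JS
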