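import Cfsg.Agent.PLoc.SL2

/-! # Centralisers of elements of odd order of `L₂(q)` are abelian -/

set_option autoImplicit false

namespace Cfsg.Agent.JS
open Subgroup PLoc
open scoped MatrixGroups

variable {F : Type*} [Field F]

theorem sl2_par {x y : SL(2, F)} (hx : x ∉ center SL(2, F)) (h : x * y = y * x) :
    ∃ s, y 0 1 = s * x 0 1 ∧ y 1 0 = s * x 1 0 ∧ y 0 0 = y 1 1 + s * (x 0 0 - x 1 1) := by
  have e0 := congrArg (fun m : SL(2, F) => m 0 0) h
  have e1 := congrArg (fun m : SL(2, F) => m 0 1) h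
  have e2 := congrArg (fun m : SL(2, F) => m 1 0) h
  simp only [sl2_mul] at e0 e1 e2
  by_cases a : x 0 1 = 0
  · by_cases b : x 1 0 = 0
    · have c : x 0 0 - x 1 1 ≠ 0 := fun c => hx (mem_center_iff.2 fun g => by
        refine sl2_ext ?_ ?_ ?_ ?_ <;> simp only [sl2_mul, a, b, sub_eq_zero.1 c] <;> ring)
      refine ⟨(y 0 0 - y 1 1) / (x 0 0 - x 1 1), ?_, ?_, ?_⟩ <;> field_simp
      · linear_combination e1
      · linear_combination -e2
      · ring
    · refine ⟨y 1 0 / x 1 0, ?_, ?_, ?_⟩ <;> field_simp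
      · linear_combination -e0
      · linear_combination e2
  · refine ⟨y 0 1 / x 0 1, ?_, ?_, ?_⟩ <;> field_simp
    · linear_combination e0
    · linear_combination -e1

theorem psl_ca {w y z : Matrix.ProjectiveSpecialLinearGroup (Fin 2) F} (w1 : w ≠ 1) (o : Odd (orderOf w))
    (hy : w * y = y * w) (hz : w * z = z * w) : y * z = z * y := by
  obtain ⟨x, rfl⟩ := QuotientGroup.mk'_surjective _ w
  have hx : x ∉ center SL(2, F) := fun c => w1 ((QuotientGroup.eq_one_iff x).2 c)
  have k : ∀ y : SL(2, F), QuotientGroup.mk' (center _) x * QuotientGroup.mk' _ y =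
      QuotientGroup.mk' _ y * QuotientGroup.mk' _ x → x * y = y * x := fun y h => by
    have c : y * x * y⁻¹ * x⁻¹ ∈ center SL(2, F) := (QuotientGroup.eq_one_iff _).1 (by
      rw [← QuotientGroup.mk'_apply, map_mul, map_mul, map_mul, ← h]; simp)
    obtain ⟨n, hn⟩ := o
    have c1 : x ^ (2 * n + 1) ∈ center SL(2, F) := (QuotientGroup.eq_one_iff _).1 (by
      rw [← QuotientGroup.mk'_apply, map_pow, ← hn, pow_orderOf_eq_one])
    have e : y * x * y⁻¹ = y * x * y⁻¹ * x⁻¹ * x := by group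
    generalize y * x * y⁻¹ * x⁻¹ = u at *
    have c2 : u ^ 2 = 1 := by
      obtain ⟨r, h1, h2⟩ := Matrix.SpecialLinearGroup.mem_center_iff.1 c
      refine Subtype.ext ?_
      rw [Matrix.SpecialLinearGroup.coe_pow, ← h2, ← map_pow, show r ^ 2 = 1 by simpa using h1, map_one]
      rfl
    have := congrArg (· ^ (2 * n + 1)) e
    simp only [conj_pow] at this
    rw [mem_center_iff.1 c1 y, mul_inv_cancel_right, Commute.mul_pow (mem_center_iff.1 c x).symm,
      pow_succ u, pow_mul, c2, one_pow, one_mul, right_eq_mul] at this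
    rw [this, one_mul, mul_inv_eq_iff_eq_mul] at e
    exact e.symm
  obtain ⟨y, rfl⟩ := QuotientGroup.mk'_surjective _ y
  obtain ⟨z, rfl⟩ := QuotientGroup.mk'_surjective _ z
  obtain ⟨s, a1, a2, a3⟩ := sl2_par hx (k y hy)
  obtain ⟨t, b1, b2, b3⟩ := sl2_par hx (k z hz)
  rw [← map_mul, ← map_mul]
  congr 1
  refine sl2_ext ?_ ?_ ?_ ?_ <;> simp only [sl2_mul, a1, a2, a3, b1, b2, b3] <;> ring

end Cfsg.Agent.JS
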