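import Cfsg.Agent.JS.Def
import Cfsg.Agent.JS.L2
import Cfsg.Agent.GF.Harm
import Cfsg.Agent.GW.Main

/-! # Groups with a strongly closed four-group -/

set_option autoImplicit false
set_option linter.unusedVariables false
set_option linter.unusedSectionVars false

namespace Cfsg.Agent.JS
open Cfsg Cfsg.Agent.BG Subgroup PHom
open Cfsg.Agent.Comp (QS CompIn)
open Cfsg.Agent.S3F (p2 SCl)
open Cfsg.Agent.GF (Lx Pr Cp Tr bar ih_all)

universe u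

variable {G : Type u} [Group G] [Finite G] {ι : Sg →* G} {H I K P R R' U V X Y : Subgroup G} {x y : Sg}
  {a b g w : G} {p : ℕ}

theorem ca0 [IsSimpleGroup G] (nab : ¬ IsMulCommutative G) (s : Syl 2 V ⊤) (ab : Abelem 2 V) (c4 : #V = 4)
    (w1 : w ≠ 1) (o : Odd (orderOf w)) (hy : w * a = a * w) (hz : w * b = b * w) : a * b = b * a := by
  have sq : ∀ x ∈ V, x * x = 1 := fun x hx => (pow_two x).symm.trans (ab.pow x hx)
  have kf := Inv.kf_of_card c4 sq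
  obtain ⟨t, t1, t2, -⟩ := Inv.kf_exists_ne kf 1
  obtain ⟨r, r1, r2, r3⟩ := Inv.kf_exists_ne kf t
  have d := GW.dt_four (Inv.ord2_iff.2 ⟨sq t t1, t2⟩) (Inv.ord2_iff.2 ⟨sq r r1, r2⟩) r3 (mem_C_comm ab.abel r1 t1)
  have e : GW.VV t r = V := eq_of_card_le (sup_le (zpowers_le.2 t1) (zpowers_le.2 r1)) (by rw [d.card, c4])
  obtain ⟨F, _, _, -, -, ⟨e⟩⟩ := (GW.gw_simple inferInstance (fun c => nab ⟨⟨c⟩⟩) d (e ▸ s)).resolve_right
    fun ⟨e⟩ => by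
      have := card_mul_relIndex (le_top (a := V))
      have h2 := s.not_dvd p2
      rw [card_top, Nat.card_congr e.toEquiv, nat_card_alternatingGroup, c4] at this
      generalize V.relIndex ⊤ = m at *
      simp [Nat.factorial] at this
      omega
  refine e.injective ?_
  rw [map_mul, map_mul]
  exact psl_ca (w := e w) (by simpa using w1) (by rwa [e.orderOf_eq]) (by rw [← map_mul, hy, map_mul])
    (by rw [← map_mul, hz, map_mul])

/-- a simple group with Sylow `2`-subgroups of order `4` is `L₂(q)`, `q` odd (Gorenstein-Walter) -/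
theorem ca (qs : QS I) (z : I ⊓ C[I] = ⊥) (s : Syl 2 V I) (ab : Abelem 2 V) (c4 : #V = 4) (hw : w ∈ I)
    (w1 : w ≠ 1) (o : PiE {2}ᶜ w) : Abel (I ⊓ C1[w]) := by
  have := qs.isSimpleGroup z
  obtain ⟨P, rfl⟩ := s.exists_sylow p2
  have hf := I.subtype_injective
  exact le_C_iff.2 fun a ha b hb => congrArg Subtype.val (ca0 (G := I) (w := ⟨w, hw⟩) (a := ⟨a, ha.1⟩)
    (b := ⟨b, hb.1⟩) qs.not_isMulCommutative (syl_top p2 P) ((abelem_map_inj hf).1 ab)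
    ((card_map_inj hf _).symm.trans c4) (fun e => w1 (congrArg Subtype.val e))
    (by rw [← orderOf_coe]; exact GW.odd_iff.1 o) (Subtype.ext (mem_C1.1 ha.2).symm)
    (Subtype.ext (mem_C1.1 hb.2).symm))

theorem ce (sc : SCl H U) (ab : Abelem 2 U) (c4 : #U = 4) (l : U ≤ H) (ha : a ∈ U) (hb : b ∈ U) (a1 : a ≠ 1)
    (b1 : b ≠ 1) (ne : a ≠ b) (h1 : P ≤ H) (h2 : PiG {p} P) (p2 : p ≠ 2) (h3 : U ≤ N[P]) (r1 : R ≤ P ⊓ C1[a])
    (r2 : R' ≤ P ⊓ C1[b]) (n1 : U ≤ N[R]) (n2 : U ≤ N[R']) :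
    ⁅R, U⁆ ≤ O[{2}ᶜ](H) ∨ ⁅R', U⁆ ≤ O[{2}ᶜ](H) := by
  have lx : Lx.{u} (#H + 1) U H := ⟨ih_all _, Nat.lt_succ_self _, ab, l, sc⟩
  have pU := ab.pig Nat.prime_two
  have oP : PiG {2}ᶜ P := PiN.ne_compl h2 p2
  have RP := r1.trans inf_le_left
  have RP' := r2.trans inf_le_left
  refine or_iff_not_imp_left.2 fun c => ?_
  obtain ⟨L, X, q, s⟩ := lx.syl_of c4 (RP.trans h1) (oP.of_le RP) n1 c
  have hL := q.cp
  have k : U ⊓ (bar H L).ker = ⊥ := eq_bot_iff.2 fun x hx => (q.memB x).2 ⟨hx.1, (hL.mem_ker (l hx.1)).1 hx.2⟩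
  have h0 : ¬ ⁅L, U⁆ ≤ O[{2}ᶜ](H) := fun e => a1 (mem_bot.1 (k.le ⟨ha, (hL.bar_ker l).2 e ha⟩))
  have nL := lx.nY hL h0 h1 oP h3
  have sec := hL.sec lx.ih lx.lt
  have dL := (le_inf hL.le (normG L)).trans hL.bar_dom
  have kr : ∀ {X}, X ≤ H → (X ≤ (bar H L).ker ↔ ⁅L, X⁆ ≤ O[{2}ᶜ](H)) := hL.bar_ker
  generalize bar H L = φ at *
  have dU := s.le.trans dL
  have A : ∀ {w}, w ∈ φ.im (P ⊓ L) → w ≠ 1 → Abel (φ.im L ⊓ C1[w]) := fun hw w1 =>
    ca sec.qs (eq_bot_iff.2 (sec.fa ▸ inf_le_inf_right _ sec.le)) (s.im dL) (ab.im φ)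
      ((card_im_inj dU k).trans c4) (im_mono inf_le_right hw) w1 (((oP.of_le inf_le_left).im φ).elt hw)
  have m : ∀ {Y}, Y ≤ P → U ≤ N[Y] → ⁅Y, U⁆ ≤ P ⊓ L := fun y n =>
    le_inf ((commL n).trans y) ((commS le_rfl s.le).trans (commR (y.trans nL)))
  have f : ∀ {Y}, Y ≤ P → U ≤ N[Y] → φ.im ⁅Y, U⁆ ≤ C[φ.im U] → ⁅Y, U⁆ ≤ O[{2}ᶜ](H) := fun {Y} y n e => by
    have c1 := cop_comm_comm n (pU.coprime (oP.of_le y)) (.inl pU.sol)
    rw [cent_im_iff ((m y n).trans (inf_le_right.trans dL)) dU, c1,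
      kr ((m y n).trans (inf_le_left.trans h1))] at e
    exact c1.ge.trans ((commC _ _).le.trans ((commS s.le le_rfl).trans e))
  obtain ⟨w, w1, w2⟩ := exists_mem_ne_one (A := φ.im ⁅R, U⁆) fun e => c (f RP n1 (e ▸ bot_le))
  have w3 := im_mono (m RP n1) w1
  have pP := (h2.of_le (inf_le_left : P ⊓ L ≤ P)).im φ
  obtain ⟨y, y1, y2⟩ := exists_mem_ne_one (pP.meet_C pP (normG _) (ne_bot_of_mem w3 w2))
  have aP : Abel (φ.im (P ⊓ L)) :=
    (A y1.1 y2).of_le (le_inf (im_mono inf_le_right) ((cent_symm (zpowers_le.2 y1.2)).trans (C_zpowers y).le))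
  have c1 : φ.im ⁅R', U⁆ ≤ C1[φ.app a] := ((im_mono (m RP' n2)).trans (le_inf (im_mono inf_le_right)
    (aP.trans (C_le_C1 w3)))).trans ((A w3 w2).trans (C_le_C1 ⟨app_mem_im (s.le ha) (dU ha),
      C1_symm (im_C1 (dU ha) ((commL n1).trans (r1.trans inf_le_right)) w1)⟩))
  have c2 : φ.im ⁅R', U⁆ ≤ C1[φ.app b] := im_C1 (dU hb) ((commL n2).trans (r2.trans inf_le_right))
  refine f RP' n2 fun g hg => mem_C.2 fun x hx => ?_
  obtain ⟨x, x1, rfl⟩ := (mem_im' dU).1 hx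
  have e1 := mem_C1.1 (c1 hg)
  have e2 := mem_C1.1 (c2 hg)
  rcases Inv.kf_cases (Inv.kf_of_card c4 fun x hx => (pow_two x).symm.trans (ab.pow x hx)) ha hb a1 b1 ne x1 with
    rfl | rfl | rfl | rfl
  · simp [app_one]
  · exact e1.symm
  · exact e2.symm
  · rw [app_mul (dU ha) (dU hb), mul_assoc, ← e2, ← mul_assoc, ← e1, mul_assoc]

end Cfsg.Agent.JS
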