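import Cfsg.Agent.JS.Bas

/-! # `C(z) = O(C(z)) N(Q)` -/

set_option autoImplicit false
set_option linter.unusedVariables false
set_option linter.unusedSectionVars false

namespace Cfsg.Agent.JS
open Cfsg Cfsg.Agent.BG Subgroup PHom
open Cfsg.Agent.Comp (QS CompIn)
open Cfsg.Agent.S3F (p2 SCl)
open Cfsg.Agent.GF (Lx Pr Cp Tr bar ih_all)

universe u

variable {G : Type u} [Group G] [Finite G] {ι : Sg →* G} {H I K P R R' U V X Y : Subgroup G} {x y : Sg}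
  {a b g w : G} {p : ℕ}

namespace Cz
theorem d1 : ∀ x ∈ T0, x * x = 1 → x ∉ U0 → ∃ f ∈ [f0, f1, f0 * f1, e0, e1, e0 * e1], f * f = 1 ∧
    f * x = x * z0 * f ∧ f * v0 = v0 * f ∧ f * v0 ∉ Z0 := by decide +kernel
theorem d2 : ∀ a ∈ U0, ∀ b, b * b = 1 → b * a = a * z0 * b → ∀ c, c * c = 1 → b * c = c * b →
    c ∈ Z0 ∨ b * c ∈ Z0 := by decide +kernel
theorem d3 : ∀ y ∈ U0, y ∉ Z0 → ∀ w ∈ U0, w ∈ Z0 ∨ ∃ c ∈ [1, z0], c ∈ Z0 ∧ w = y * c := by decide +kernel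
theorem d4 : ∀ y ∈ Q0, y * y ∈ Z0 ∧ (y ∈ E0 ∨ y ∈ F0 → y ∈ U0) ∧ ∀ x ∈ Q0, x * y * x⁻¹ * y⁻¹ ∈ Z0 := by
  decide +kernel
theorem l1 : ∀ a ∈ Q0, a ∉ Z0 → ∀ b ∈ Q0, b ∉ Z0 → a * b ∉ Z0 → a * a = b * b → a * a = a * b * (a * b) →
    a * a = z0 := by decide +kernel
theorem l2 : ∀ c ∈ Q0, ∀ a ∈ Q0, c * a ≠ a * c → ∀ b ∈ Q0, c * b ≠ b * c → c * (a * b) = a * b * c := by
  decide +kernel
theorem l3 : ∀ a, a * a = z0 → ∀ b, b * b = z0 → a * b * (a * b) = z0 → ∀ c, c * c = z0 → c * a = a * c →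
    c * b = b * c → ∀ d, d * d = z0 → d * a = a * d → d * b = b * d → c * d * (c * d) ≠ z0 := by decide +kernel
def dl (s a : Sg) : Sg := a * (s * a * s⁻¹)
theorem l4 : ∀ a, a * a = z0 → ∃ s ∈ [e0, e1, e0 * e1], (dl s a ∉ Z0 ∧ dl s a * dl s a ≠ z0) ∨
    ∃ t ∈ [e0, e1], dl t (dl s a) ∉ Z0 ∧ dl t (dl s a) * dl t (dl s a) ≠ z0 := by decide +kernel
theorem zc (h : x ∈ Z0) (y : Sg) : y * x = x * y := (cen_iff x).2 h y
theorem zz : ∀ x ∈ Z0, x * x = 1 := by decide +kernel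

theorem cz (c : g ∈ C1[ι z0]) (e : x ∈ Z0) : g * ι x * g⁻¹ = ι x := by
  rcases (mem_Z0 x).1 e with rfl | rfl
  · simp
  · rw [mem_C1.1 c, mul_inv_cancel_right]

theorem nU (c : g ∈ C1[ι z0]) (h1 : y ∈ U0) (h2 : y ∉ Z0) (e : g * ι y * g⁻¹ ∈ U0.map ι) : g ∈ N[U0.map ι] :=
  mem_N_of (by
    rintro _ ⟨w, i, rfl⟩
    rcases d3 y h1 h2 w i with j | ⟨k, -, j, rfl⟩
    · rw [cz c j]; exact mem_im i
    · rw [map_mul, ← conj_mul, cz c j]; exact mul_mem e (mem_im (Z_U j)))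

theorem Ohat (hR : PiG {2} R) (h1 : H ≤ C[R]) (l : R ≤ H) : (quo R).pre O[{2}ᶜ](H ÷ R) ≤ O[{2}ᶜ](H) ⊔ R := by
  have n := cents_norm h1
  have e : (quo R).pre O[{2}ᶜ](H ÷ R) ≤ H := pre_le_of_le_im n ((quo_ker R).le.trans l) (O_le _ _)
  have s : Syl 2 R ((quo R).pre O[{2}ᶜ](H ÷ R)) :=
    ⟨le_pre_quo _ _, hR, by rw [← card_quo (e.trans n), quo_pre]; exact O_pig _ _⟩
  exact ((burnside p2 s (inf_le_left.trans (e.trans h1))).sdprod s).sup.ge.trans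
    (sup_le_sup_right (O_le_of_normal _ e (norm_pre n (O_norm _ _))) _)
end Cz
open Cz

namespace TJ
variable (h : TJ ι H) (c : H ≤ C1[ι z0])
include h c

theorem czZ (e : Cj H (ι x) (ι y)) (i : x ∈ Z0) : y = x := by
  obtain ⟨g, a, e⟩ := e
  exact h.inj (e ▸ Cz.cz (c a) i)

theorem czA (x1 : x ∈ T0) (x2 : x * x = 1) (x3 : x ∉ U0) (y1 : y ∈ U0) : ¬ Cj H (ι x) (ι y) := fun e => by
  have y2 : y ∉ Z0 := fun i => x3 (h.czZ c e.symm i ▸ y1)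
  obtain ⟨k, a, e⟩ := e
  obtain ⟨f, -, f1, f2, f3, f4⟩ := d1 x x1 x2 x3
  let B : Subgroup Sg := closure {x, f, v0, z0}
  have n : ∀ s, s * x * s⁻¹ * x⁻¹ ∈ Z0 → ι s ∈ BG.cj k⁻¹ N[U0.map ι] := fun s i => mem_cj_inv.2
    (nU (c (mul_mem (mul_mem a (h.mem s)) (inv_mem a))) y1 y2 (by
      convert mul_mem (Cz.cz (c a) i ▸ mem_im (ι := ι) (Z_U i)) (mem_im y1) using 1
      rw [← e]; simp only [map_mul, map_inv]; group))
  have vx : v0 * x * v0⁻¹ * x⁻¹ = 1 := by rw [← (C_U' v0 v_U (by decide) x).2 x1]; group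
  obtain ⟨g, b, l⟩ := (h.sub (le_inf h.le (rg_norm n_U)) inf_le_left).cj_sub (X := BG.cj k (B.map ι))
    (le_inf (cj_le_of_mem (h.mle _) (normG _ a)) (cj_le_iff.2 (map_le_iff_le_comap.2 ((closure_le _).2 (by
      rintro s (rfl | rfl | rfl | rfl)
      · exact n _ (by simp)
      · exact n _ (by rw [f2, mul_inv_cancel_right, z0_cen, mul_inv_cancel_right]; exact z_Z)
      · exact n _ (vx ▸ one_mem _)
      · exact n _ (by rw [← z0_cen]; simp)))))) ((map_pig _).cj _)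
  rw [← cj_mul] at l
  obtain ⟨σ, q⟩ := h.pull l
  have m : ∀ s ∈ ({x, f, v0, z0} : Set Sg), s ∈ B := subset_closure
  have mx := m x (by simp)
  have mf := m f (by simp)
  have mv := m v0 (by simp)
  have mz := m z0 (by simp)
  have sz : σ z0 = z0 := h.inj ((q.eq _ mz).trans (Cz.cz (c (mul_mem b.1 a)) z_Z))
  have sZ : ∀ s ∈ B, σ s ∈ Z0 → s ∈ Z0 := fun s i j => (mem_Z0 s).2 (((mem_Z0 _).1 j).imp
    (fun e => q.inj _ i _ (one_mem _) (e.trans q.one.symm)) fun e => q.inj _ i _ mz (e.trans sz.symm))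
  have sx : σ x ∈ U0 := h.mem_iff.1 (by
    rw [q.eq _ mx, show g * k * ι x * (g * k)⁻¹ = g * (k * ι x * k⁻¹) * g⁻¹ by group, e]
    exact conj_mem b.2 (mem_im y1))
  rcases d2 _ sx _ (q.sq1 mf f1) (by rw [← q.mul _ mf _ mx, f2, q.mul _ (mul_mem mx mz) _ mf, q.mul _ mx _ mz, sz])
    _ (q.sq1 mv (by decide)) (q.cm mf mv f3) with i | i
  · exact absurd (sZ _ mv i) (by decide)
  · exact f4 (sZ _ (mul_mem mf mv) (q.mul _ mf _ mv ▸ i))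

theorem czB (x1 : x ∈ T0) (x2 : x * x = 1) (x3 : x ∉ U0) : ¬ Cj H (ι x) (ι u0) := fun e => by
  obtain ⟨k, a, e'⟩ := id e
  obtain ⟨R, s, l⟩ := syl_superset p2 (le_inf (h.mle _) (map_C1 u0)) (map_pig C1[u0])
  obtain ⟨m, b, l'⟩ := s.cj_sub p2 (U := BG.cj k (C1[x].map ι))
    (le_inf (cj_le_of_mem (h.mle _) (normG _ a)) (by rw [← e', ← cj_C1]; exact cj_mono _ (map_C1 x))) ((map_pig _).cj _)
  obtain ⟨g, d, l''⟩ := h.cj_sub (s.le.trans inf_le_left) s.pi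
  obtain ⟨t, ht⟩ := l'' (mem_cj_conj.2 (l (mem_im (mem_C1_self u0))))
  refine h.czA c x1 x2 x3 (h.big (h.inj (by rw [map_mul, map_one]; exact cjsq ht.symm (by decide))) l''
    (by rw [ht, ← cj_C1]; exact cj_mono _ (s.le.trans inf_le_right)) ?_) (e.trans ⟨g, d, ht.symm⟩)
  by_contra! n
  rw [card_cj] at n
  have E := eq_of_card_le l' (by rwa [card_cj, card_cj, h.card, cardC x2 x3])
  have ab : Abelem 2 R := E ▸ (((C_E x1 x2 x3).elim (· ▸ ab_E) (· ▸ ab_F) : Abelem 2 C1[x]).map ι |>.map _ |>.map _)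
  obtain ⟨o, o1, o2⟩ : ∃ o, o * u0 = u0 * o ∧ o ^ 2 ≠ 1 := by decide +kernel
  exact h.ne_one o2 (map_pow ι o 2 ▸ ab.pow _ (l (mem_im (mem_C1.2 o1))))

theorem czQ (y1 : y ∈ Q0) (e : Cj H (ι y) (ι x)) : x ∈ Q0 := by
  obtain ⟨g, a, e'⟩ := id e
  have k : x * x = y * y := h.inj (by rw [map_mul, ← e', conj_mul, ← map_mul, Cz.cz (c a) (d4 y y1).1])
  rcases (mem_Z0 _).1 (d4 y y1).1 with i | i
  swap
  · exact sqz x (k.trans i)
  rcases invs x (k.trans i) with j | ⟨s, j⟩ | ⟨j, j'⟩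
  · exact U_Q j
  · exact (mem_N.1 (n_Q (mem_top s)) x).2 (j ▸ by decide)
  have t : x ∈ T0 := j'.elim (E_T ·) (F_T ·)
  rcases invs y i with l | l | ⟨l, l'⟩
  · exact (h.czA c t (k.trans i) j l e.symm).elim
  · exact (h.czB c t (k.trans i) j (e.symm.trans (h.cj' l))).elim
  · exact (l ((d4 y y1).2.1 l')).elim

theorem normQ : H ≤ O[{2}ᶜ](H) ⊔ H ⊓ N[Q0.map ι] := by
  have cZ : H ≤ C[Z0.map ι] := by rwa [map_Z, C_zpowers]
  have d : H ≤ (quo (Z0.map ι)).dom := cents_norm cZ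
  have ZQ : Z0.map ι ≤ Q0.map ι := map_mono (Z_U.trans U_Q)
  have kr := quo_ker (Z0.map ι)
  have hO := Ohat (map_pig Z0) cZ (h.mle _)
  generalize hφ : quo (Z0.map ι) = φ at d kr hO
  obtain ⟨j, ja, jm, jr⟩ : ∃ j : Sg →* Quo (Z0.map ι), (∀ x, j x = φ.app (ι x)) ∧
      (∀ A : Subgroup Sg, A.map j = φ.im (A.map ι)) ∧ j.range = φ.im ι.range :=
    ⟨_, push_app (h.le.trans d), push_map _, push_range _⟩
  have j1 : ∀ x, j x = 1 ↔ x ∈ Z0 := fun x => by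
    rw [← h.mem_iff, ← SetLike.ext_iff.1 kr, PHom.mem_ker, ja, and_iff_right (d (h.mem x))]
  have jH : ∀ x, j x ∈ φ.im H := fun x => ja x ▸ app_mem_im (h.mem x) (d (h.mem x))
  have lx : Lx (#(φ.im H) + 1) (Q0.map j) (φ.im H) := ⟨ih_all _, Nat.lt_succ_self _, ⟨le_C_iff.2 (by
      rintro _ ⟨x, a, rfl⟩ _ ⟨y, b, rfl⟩
      have := (j1 _).2 ((d4 y b).2.2 x a)
      rwa [map_mul, map_mul, map_mul, map_inv, map_inv, mul_inv_eq_one, mul_inv_eq_iff_eq_mul] at this), by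
      rintro _ ⟨x, a, rfl⟩
      rw [pow_two, ← map_mul, j1]; exact (d4 x a).1⟩, jm _ ▸ im_mono (h.mle _),
    jm _ ▸ (GF.scl_syl h.syl (by
      rintro _ ⟨y, a, rfl⟩ g b ⟨x, e⟩
      exact e ▸ mem_im (h.czQ c a ⟨g, b, e.symm⟩))).im d (h.mle _) (map_pig _)⟩
  have ZM : Z0.map ι ≤ O[{2}ᶜ](H) ⊔ H ⊓ N[Q0.map ι] :=
    (le_inf (h.mle _) (ZQ.trans (normG _))).trans le_sup_right
  have MH : O[{2}ᶜ](H) ⊔ H ⊓ N[Q0.map ι] ≤ H := sup_le (O_le _ _) inf_le_left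
  refine le_of_im_le d (MH.trans d) (kr.le.trans ZM) (lx.gen ?_ ?_ fun L hL n => ?_)
  · exact (im_pre (O_le _ _)).ge.trans (im_mono (hO.trans (sup_le le_sup_left ZM)))
  · rw [jm, ← im_IN d ((h.mle _).trans d) (kr.le.trans ZQ)]; exact im_mono le_sup_right
  exfalso
  obtain ⟨B, D, X, p⟩ := lx.pr hL n
  have mQ : ∀ x, j x ∈ Q0.map j → x ∈ Q0 := by
    rintro x ⟨y, a, e⟩
    exact (mul_mem_cancel_left (inv_mem a)).1 (U_Q (Z_U ((j1 _).1 (by rw [map_mul, map_inv, e, inv_mul_cancel]))))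
  have lift : ∀ g ∈ H, ∀ a b, φ.app g * j a * (φ.app g)⁻¹ = j b → ∃ w ∈ Z0, g * ι a * g⁻¹ = ι (b * w) := fun g i a b e => by
    have k := mul_mem (mul_mem i (h.mem a)) (inv_mem i)
    rw [ja, ja, ← app_conj (d i) (d (h.mem a)), eq_comm, app_eq_iff (d (h.mem b)) (d k), kr] at e
    obtain ⟨w, w1, w2⟩ := e
    exact ⟨w, w1, by rw [map_mul, w2, mul_inv_cancel_left]⟩
  have F1 : ∀ a, j a ∈ D → a ∉ Z0 → ∀ b, j b ∈ D → b ∉ Z0 →
      a * a = b * b ∧ ∀ s, j s ∈ B → s * a = a * s → s * b = b * s := fun a a1 a2 b b1 b2 => by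
    obtain ⟨g, g1, e⟩ := p.tr _ a1 (mt (j1 _).1 a2) _ b1 (mt (j1 _).1 b2)
    obtain ⟨g, i, rfl⟩ := (mem_im' d).1 (hL.le (p.XL g1))
    obtain ⟨w, w1, w2⟩ := lift g i a b e
    refine ⟨h.inj ?_, fun s s1 k => ?_⟩
    · rw [← Cz.cz (c i) (d4 a (mQ a (p.DA a1))).1, map_mul, ← conj_mul, w2, ← map_mul, mul_assoc, ← mul_assoc w,
        ← zc w1, mul_assoc b w, zz w w1, mul_one]
    · obtain ⟨v, v1, v2⟩ := lift g i s s (by rw [← mem_C.1 (p.XC g1) _ s1, mul_inv_cancel_right])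
      have : s * v * (b * w) = b * w * (s * v) := h.inj (by
        rw [map_mul, map_mul ι (b * w), ← v2, ← w2, conj_mul, conj_mul, ← map_mul, ← map_mul, k])
      rw [(show Commute v b from (zc v1 b).symm).mul_mul_mul_comm, (show Commute w s from (zc w1 s).symm).mul_mul_mul_comm,
        zc w1 v] at this
      exact mul_right_cancel this
  obtain ⟨a, a1, a2, b, b1, b2, ab⟩ : ∃ a, j a ∈ D ∧ a ∉ Z0 ∧ ∃ b, j b ∈ D ∧ b ∉ Z0 ∧ a * b ∉ Z0 := by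
    obtain ⟨y, y1, y2⟩ := exists_mem_ne_one p.Dne
    obtain ⟨a, -, rfl⟩ := p.DA y1
    refine ⟨a, y1, mt (j1 _).2 y2, ?_⟩
    by_contra! k
    have : (D : Set (Quo (Z0.map ι))) ⊆ {1, (j a)⁻¹} := fun y hy => by
      obtain ⟨b, -, rfl⟩ := p.DA hy
      refine or_iff_not_imp_left.2 fun e => eq_inv_of_mul_eq_one_right ?_
      rw [← map_mul, j1]; exact k b hy (mt (j1 _).2 e)
    have k := (Set.ncard_le_ncard this).trans (Set.ncard_insert_le _ _)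
    have f := p.four
    rw [Set.ncard_singleton] at k
    change _ ≤ (D : Set (Quo (Z0.map ι))).ncard at f
    omega
  have ab1 : j (a * b) ∈ D := map_mul j a b ▸ mul_mem a1 b1
  have aQ := mQ a (p.DA a1)
  have bQ := mQ b (p.DA b1)
  have aa := l1 a aQ a2 b bQ b2 ab (F1 a a1 a2 b b1 b2).1 (F1 a a1 a2 _ ab1 ab).1
  have sq : ∀ s, j s ∈ D → s ∉ Z0 → s * s = z0 := fun s i k => (F1 s i k a a1 a2).1.trans aa
  have cB : ∀ s, j s ∈ B → s * a = a * s := fun s i => by_contra fun k =>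
    k ((F1 _ ab1 ab a a1 a2).2 s i (l2 s (mQ s (p.BA i)) a aQ k b bQ fun l => k ((F1 b b1 b2 a a1 a2).2 s i l)))
  have nB : ∀ s, j s ∈ B → ∀ t, j t ∈ B → s * s = z0 → t * t = z0 → s * t * (s * t) ≠ z0 := fun s i t k s2 t2 =>
    l3 a aa b (sq b b1 b2) (sq _ ab1 ab) s s2 (cB s i) ((F1 a a1 a2 b b1 b2).2 s i (cB s i)) t t2 (cB t k)
      ((F1 a a1 a2 b b1 b2).2 t k (cB t k))
  have nA : ∀ s, j s ∈ N[Q0.map j] := fun s => rg_norm n_Q (mem_rg s)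
  have cq : ∀ s y : Sg, y * y = z0 → s * y * s⁻¹ * (s * y * s⁻¹) = z0 := fun s y e => by
    rw [conj_mul, e, z0_cen, mul_inv_cancel_right]
  have nL : ∀ s, j s ∈ N[L] := fun s => by_contra fun k => by
    have m := hL.cj (j s)
    rw [cj_of_mem (jH s)] at m
    have o : ∀ y, j y ∈ D → j (s * y * s⁻¹) ∈ B := fun y i => by
      rw [map_mul, map_mul, map_inv]
      exact p.orth m (fun e => k (mem_N_iff_cj.2 e.symm)) ⟨conj_mem (nA s) (p.DA i), mem_cj_conj.2 (p.DL (lx.nA hL) i)⟩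
    exact nB _ (o a a1) _ (o b b1) (cq s a aa) (cq s b (sq b b1 b2)) (by rw [conj_mul]; exact cq s _ (sq _ ab1 ab))
  rcases p.sh with k | ⟨-, k⟩
  · have o : ∀ s y, j y ∈ D → j (dl s y) ∈ D := fun s y i => by
      rw [dl, map_mul, map_mul, map_mul, map_inv]
      exact mul_mem i (conj_mem (k ⟨⟨jH s, nL s⟩, nA s⟩) i)
    obtain ⟨s, -, ⟨m, n⟩ | ⟨t, -, m, n⟩⟩ := l4 a aa
    · exact n (sq _ (o s a a1) m)
    · exact n (sq _ (o t _ (o s a a1)) m)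
  · have o : ∀ s, j (u0 * s * u0⁻¹ * s⁻¹) ∈ B := fun s => by
      rw [map_mul, map_mul, map_mul, map_inv, map_inv]
      exact k _ ⟨⟨jH s, nL s⟩, nA s⟩ ((rg_pig j).elt (mem_rg s)) (comm_mem (mem_im (by decide)) (mem_zpowers _))
    exact nB _ (o e0) _ (o e1) (by decide) (by decide) (by decide)

end TJ

end Cfsg.Agent.JS
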