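import Cfsg.Agent.JS.Sg
import Cfsg.Agent.GF.Main

/-! # Groups with a Sylow `2`-subgroup of type `J₂`: definitions

`TJ ι H`: the injective `ι : Sg →* G` has a Sylow `2`-subgroup of `H` as its range.
Files: `Mod` (the model), `Cz` (`C(z)` is `2`-constrained), `P0`, `A5`, `Ce` (centralisers of the other involutions),
`CA` (`U` strongly closed), `Fus`, `Tr`, `Main`. -/

set_option autoImplicit false
set_option linter.unusedVariables false
set_option linter.unusedSectionVars false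

namespace Cfsg.Agent.JS
open Cfsg Cfsg.Agent.BG Subgroup PHom
open Cfsg.Agent.S3F (p2)

universe u

variable {G : Type u} [Group G] [Finite G] {G' : Type u} [Group G'] [Finite G'] {ι : Sg →* G} {φ : PHom G G'}
  {H K X Y : Subgroup G} {A B : Subgroup Sg} {x y : Sg} {g : G}

structure TJ (ι : Sg →* G) (H : Subgroup G) : Prop where
  inj : Function.Injective ι
  syl : Syl 2 ι.range H

/-- no involution of `T` outside `U` is conjugate in `H` to an element of `U` -/
def Two (ι : Sg →* G) (H : Subgroup G) : Prop :=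
  ∀ x ∈ T0, x * x = 1 → x ∉ U0 → ∀ g ∈ H, ∀ y ∈ U0, g * ι x * g⁻¹ ≠ ι y

/-- `x` and `y` are conjugate in `H` -/
def Cj (H : Subgroup G) (x y : G) : Prop := ∃ g ∈ H, g * x * g⁻¹ = y

theorem Cj.symm {x y : G} (h : Cj H x y) : Cj H y x := by
  obtain ⟨g, a, rfl⟩ := h
  exact ⟨g⁻¹, inv_mem a, by group⟩
theorem Cj.trans {x y z : G} (h : Cj H x y) (h' : Cj H y z) : Cj H x z := by
  obtain ⟨g, a, rfl⟩ := h
  obtain ⟨k, b, rfl⟩ := h'
  exact ⟨k * g, mul_mem b a, by group⟩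
theorem Cj.mono {x y : G} (h : Cj H x y) (l : H ≤ K) : Cj K x y := h.imp fun _ a => ⟨l a.1, a.2⟩
theorem Cj.refl (H : Subgroup G) (x : G) : Cj H x x := ⟨1, one_mem _, by group⟩
theorem Two.mono (h : Two ι H) (l : K ≤ H) : Two ι K := fun x a b c g d => h x a b c g (l d)

theorem map_le (A : Subgroup Sg) : A.map ι ≤ ι.range := map_le_range _ _
theorem mem_im (h : x ∈ A) : ι x ∈ A.map ι := mem_map_of_mem _ h
theorem mem_rg (x : Sg) : ι x ∈ ι.range := ⟨x, rfl⟩
theorem rg_pig (ι : Sg →* G) : PiG {2} ι.range := by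
  rw [MonoidHom.range_eq_map]
  exact (pig_of_card_pow (n := 7) p2 (by rw [card_top, Sg.card]; rfl)).map ι
theorem map_pig (A : Subgroup Sg) : PiG {2} (A.map ι) := (rg_pig ι).of_le (map_le A)
theorem rg_cen : ι.range ≤ C1[ι z0] := by
  rintro _ ⟨x, rfl⟩
  rw [mem_C1, ← map_mul, ← map_mul, z0_cen]

/-- the composite with a partial homomorphism -/
def push (φ : PHom G G') (ι : Sg →* G) (d : ι.range ≤ φ.dom) : Sg →* G' :=
  φ.hom.comp (ι.codRestrict φ.dom fun x => d (mem_rg x))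

theorem push_app (d : ι.range ≤ φ.dom) (x : Sg) : push φ ι d x = φ.app (ι x) := (app_eq (d (mem_rg x))).symm

theorem push_map (d : ι.range ≤ φ.dom) (A : Subgroup Sg) : A.map (push φ ι d) = φ.im (A.map ι) := by
  ext y
  rw [PHom.mem_im' ((map_le A).trans d)]
  exact ⟨fun ⟨x, a, b⟩ => ⟨ι x, mem_im a, (push_app d x).symm.trans b⟩,
    fun ⟨_, ⟨x, a, rfl⟩, b⟩ => ⟨x, a, (push_app d x).trans b⟩⟩

theorem push_range (d : ι.range ≤ φ.dom) : (push φ ι d).range = φ.im ι.range := by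
  rw [MonoidHom.range_eq_map, push_map, ← MonoidHom.range_eq_map]

namespace TJ
variable (h : TJ ι H)
include h

theorem le : ι.range ≤ H := h.syl.le
theorem mem (x : Sg) : ι x ∈ H := h.le (mem_rg x)
theorem mle (A : Subgroup Sg) : A.map ι ≤ H := (map_le A).trans h.le
theorem eq : ι x = ι y ↔ x = y := h.inj.eq_iff
theorem mem_iff : ι x ∈ A.map ι ↔ x ∈ A := mem_map_iff_mem h.inj
theorem ne_one (a : x ≠ 1) : ι x ≠ 1 := fun e => a (h.inj (e.trans (map_one ι).symm))
theorem card (A : Subgroup Sg) : #(A.map ι) = #A := card_map_inj h.inj A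
theorem card_rg : #ι.range = 128 := by rw [MonoidHom.range_eq_map, h.card, card_top, Sg.card]
theorem sub (l : ι.range ≤ K) (l' : K ≤ H) : TJ ι K := ⟨h.inj, h.syl.sub l l'⟩
theorem cz : TJ ι (H ⊓ C1[ι z0]) := h.sub (le_inf h.le rg_cen) inf_le_left
theorem cj (x s : Sg) : Cj H (ι x) (ι (s * x * s⁻¹)) := ⟨ι s, h.mem s, by simp⟩
theorem cj' (e : ∃ s, s * x * s⁻¹ = y) : Cj H (ι x) (ι y) := by
  obtain ⟨s, rfl⟩ := e
  exact h.cj x s

theorem push (d : H ≤ φ.dom) (o : PiG {2}ᶜ φ.ker) : TJ (push φ ι (h.le.trans d)) (φ.im H) := by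
  refine ⟨(injective_iff_map_eq_one _).2 fun x e => ?_, push_range (h.le.trans d) ▸ h.syl.im d⟩
  rw [push_app] at e
  exact h.inj ((mem_bot.1 ((rg_pig ι).inf_bot o ▸ mem_inf.2 ⟨mem_rg x, mem_ker.2 ⟨d (h.mem x), e⟩⟩)).trans
    (map_one ι).symm)

/-- a `2`-subgroup is conjugate into the range -/
theorem cj_sub (l : X ≤ H) (p : PiG {2} X) : ∃ g ∈ H, BG.cj g X ≤ ι.range := h.syl.cj_sub p2 l p
end TJ

end Cfsg.Agent.JS
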