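import Cfsg.Agent.JS.A5
import Cfsg.Agent.S1658
import Cfsg.Agent.S1665

/-! # The identification -/

set_option autoImplicit false
set_option linter.unusedVariables false
set_option linter.unusedSectionVars false

namespace Cfsg.Agent.JS
open Cfsg Cfsg.Agent.BG Subgroup PHom
open Cfsg.Agent.Comp (QS CompIn)
open Cfsg.Agent.S3F (p2 SCl)
open Cfsg.Agent.GF (Lx Pr Cp Tr bar ih_all)

universe u

variable {G : Type u} [Group G] [Finite G] {ι : Sg →* G} {H I K P R R' U V X Y : Subgroup G} {x y : Sg}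
  {a b g w : G} {p : ℕ}

theorem xs_of_eq (h : PiG {2} P) (c : #X = 2) (h1 : Z[P] = X) (h2 : ⁅P, P⁆ = X) (h3 : ∀ x ∈ P, x ^ 2 ∈ X) :
    IsExtraspecial 2 P := by
  have e : (center P).map P.subtype = X := (Comp.center_map_subtype P).trans h1
  refine ⟨⟨h.pg p2, map_injective P.subtype_injective (e ▸ le_antisymm (h.Phi_le p2 h2.le h3)
    (h2 ▸ h.nil.der_le_Phi)), map_injective P.subtype_injective ?_⟩, ?_⟩
  · rw [e, map_subtype_commutator, h2]
  · rw [← card_map_inj P.subtype_injective, e, c]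

theorem xs_Q0 : IsExtraspecial 2 Q0 := by
  have : Finite Sg := Finite.of_fintype _
  refine xs_of_eq (pig_of_card_pow (n := 5) p2 card_Q0) card_Z0 (le_antisymm (fun x a => cen_Q x (mem_C.1 a.2))
    (le_inf (Z_U.trans U_Q) fun x a => mem_C.2 fun y _ => ((cen_iff x).2 a y)))
    (le_antisymm (comm_le_iff.2 (by decide +kernel)) ?_) (by decide +kernel)
  rw [Z0_eq, zpowers_le]
  exact (show u0 * v0 * u0⁻¹ * v0⁻¹ = z0 by decide) ▸ comm_mem (by decide) (by decide)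

theorem Q_rk : ∀ x, Nc x → ∀ y ∈ Q0, y * y = 1 → x * y = y * x → y ∈ Z0 ∨ y * x⁻¹ ∈ Z0 := by decide +kernel
theorem Q_cl : ∀ x ∈ Q0, x * x = 1 → x = 1 ∨ x = z0 ∨ (∃ s, s * x * s⁻¹ = v0) ∨ ∃ s, s * x * s⁻¹ = u0 := by
  decide +kernel

theorem card_el {A : Subgroup Sg} (l : A ≤ Q0) (ab : Abelem 2 A) : #A ≤ 4 := by
  have sq : ∀ x ∈ A, x * x = 1 := fun x a => (pow_two x).symm.trans (ab.pow x a)
  by_cases c : A ≤ Z0
  · exact (card_le c).trans (by rw [card_Z0]; omega)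
  obtain ⟨x, a, b⟩ := SetLike.not_le_iff_exists.1 c
  have k : A ≤ Z0 ⊔ zpowers x := fun y d => (Q_rk x ⟨l a, sq x a, b⟩ y (l d) (sq y d) (mem_C_comm ab.abel a d)).elim
    mem_sup_left fun e => by simpa using mul_mem_sup e (mem_zpowers x)
  have := card_sup_dvd_l (A := Z0) (B := zpowers x) (cents_norm fun y _ => mem_C.2 fun t e => ((cen_iff t).2 e y).symm)
  rw [card_Z0, card_zpowers_of_pow p2 (ab.pow x a) fun e => b (e ▸ one_mem _)] at this
  exact (card_le k).trans (Nat.le_of_dvd (by omega) this)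

theorem TJ.fin [IsSimpleGroup G] (h : TJ ι ⊤) (o : O[{2}ᶜ](C1[ι z0]) = ⊥) (uv : Cj C1[ι z0] (ι u0) (ι v0))
    (zv : Cj ⊤ (ι z0) (ι v0)) : Cfsg.Spor.IsoJ2 G ∨ Cfsg.Spor.IsoJ3 G := by
  have hz := h.sub rg_cen le_top
  obtain ⟨f, f1, f2⟩ := hz.a5 le_rfl o uv
  have l := hz.mle Q0
  have n : ((Q0.map ι).subgroupOf C1[ι z0]).Normal := f2 ▸ f.normal_ker
  have e := (Q0.equivMapOfInjective ι h.inj).trans (subgroupOfEquivOfLe l).symm
  have h1 := Comp.extraspecial_congr e xs_Q0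
  have h2 := (Nat.card_congr e.toEquiv).symm.trans card_Q0
  have h3 : ∀ E : Subgroup ((Q0.map ι).subgroupOf C1[ι z0]), IsElementaryAbelian 2 E → #E ≤ 2 ^ 2 := fun E a => by
    have i := Q0.subtype_injective.comp e.symm.injective
    rw [← card_map_inj (f := Q0.subtype.comp e.symm.toMonoidHom) i]
    refine card_el ?_ ((abelem_iff.2 a).map _)
    rintro _ ⟨x, -, rfl⟩
    exact (e.symm x).2
  have h4 : C[(Q0.map ι).subgroupOf C1[ι z0]] ≤ (Q0.map ι).subgroupOf C1[ι z0] := fun g a =>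
    map_mono (Z_U.trans U_Q) (hz.cQ le_rfl o ⟨g.2, mem_C.2 fun y b => congrArg Subtype.val (mem_C.1 a ⟨y, l b⟩ b)⟩)
  have h5 := (QuotientGroup.quotientMulEquivOfEq f2.symm).trans (QuotientGroup.quotientKerEquivOfSurjective f f1)
  have cj : ∀ {a b : G}, Cj ⊤ a b → IsConj a b := fun ⟨g, _, e⟩ => isConj_iff.2 ⟨g, e⟩
  have cl : ∀ t : G, orderOf t = 2 → IsConj t (ι z0) ∨ IsConj t (ι e0) := fun t a => by
    obtain ⟨x, x2, c⟩ := h.inv_in (mem_top t) (Inv.sq_of_ord2 a)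
    by_cases q : x ∈ Q0
    · left
      rcases Q_cl x q x2 with rfl | rfl | b | b
      · obtain ⟨k, -, c⟩ := c
        exact (Inv.ne_one_of_ord2 a (by simpa using c)).elim
      · exact cj c
      · exact cj (c.trans ((h.cj' b).trans zv.symm))
      · exact cj (c.trans ((h.cj' b).trans ((uv.mono le_top).trans zv.symm)))
    · exact .inr (cj (c.trans ((hz.ee le_rfl uv x2 q (by decide) (by decide)).mono le_top)))
  by_cases c : IsConj (ι z0) (ι e0)
  · have k : ∀ t : G, orderOf t = 2 → IsConj t (ι z0) := fun t a => (cl t a).elim id fun b => b.trans c.symm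
    exact .inr (S1658.result _ h.ordz _ h1 h2 h3 h4 h5 fun x y a b => (k x a).trans (k y b).symm)
  · exact .inl (S1665.result _ h.ordz _ h1 h2 h3 h4 h5 ⟨_, _, h.ordz, h.ord (by decide) (by decide), c, cl⟩)

end Cfsg.Agent.JS
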