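import Cfsg.Agent.JS.Bas

/-! # Fusion of involutions -/

set_option autoImplicit false
set_option linter.unusedVariables false
set_option linter.unusedSectionVars false

namespace Cfsg.Agent.JS
open Cfsg Cfsg.Agent.BG Subgroup PHom
open Cfsg.Agent.Comp (QS CompIn)
open Cfsg.Agent.S3F (p2 SCl)
open Cfsg.Agent.GF (Lx Pr Cp Tr bar ih_all)

universe u

variable {G : Type u} [Group G] [Finite G] {ι : Sg →* G} {H I K P R R' U V X Y : Subgroup G} {x y : Sg}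
  {a b g w : G} {p : ℕ}

theorem sq_U : ∀ y : Sg, y * y * (y * y) = 1 → y * y ∈ U0 := by decide +kernel
theorem U_cases : ∀ x ∈ U0, x ≠ 1 → x ≠ z0 → ∃ s, s * x * s⁻¹ = v0 := by decide +kernel
theorem cj_z : ∀ x : Sg, x * x = 1 → x ∉ U0 → ∃ s, s * x * s⁻¹ = z0 * x := by decide +kernel
theorem cj_v : ∀ x ∈ T0, x * x = 1 → x ∉ U0 → ∃ s, s * x * s⁻¹ = x * v0 := by decide +kernel
def q0 : Sg := ⟨1, 1, F4.w, false⟩
def q1 : Sg := ⟨F4.w, ⟨true, true⟩, F4.w, false⟩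
theorem q0_C : q0 ∈ C1[u0] := by decide
theorem q1_C : q1 ∈ C1[u0] := by decide
theorem z_C : z0 ∈ C1[u0] := by decide

namespace TJ
variable (h : TJ ι H)
include h

/-- if `u` fuses into `T`, it fuses into `U` extremally -/
theorem uU (t : x ∈ T0) (e : Cj H (ι x) (ι u0)) :
    ∃ g ∈ H, BG.cj g (C1[u0].map ι) ≤ ι.range ∧ g * ι u0 * g⁻¹ ∈ U0.map ι := by
  obtain ⟨k, a, e⟩ := e
  obtain ⟨R, r1, r2⟩ := syl_superset p2 (le_inf (h.mle _) (map_C1 u0)) (map_pig (ι := ι) (C1[u0]))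
  obtain ⟨c, b, d⟩ := r1.cj_sub p2 (U := BG.cj k (C1[x].map ι)) (le_inf (cj_le_of_mem (h.mle _) (normG _ a))
    (by rw [← e, ← cj_C1]; exact cj_mono _ (map_C1 x))) ((map_pig _).cj _)
  obtain ⟨g, f, i⟩ := h.cj_sub (r1.le.trans inf_le_left) r1.pi
  have l := (cj_mono g r2).trans i
  obtain ⟨σ, q⟩ := h.pull l
  refine ⟨g, f, l, q.eq u0 (mem_C1_self _) ▸ mem_im (by_contra fun n => ?_)⟩
  have s := q.sq1 (mem_C1_self u0) (by decide)
  have c1 : BG.cj g R ≤ C1[σ u0].map ι := by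
    rw [← h.inf_C1, q.eq u0 (mem_C1_self _), ← cj_C1]
    exact le_inf i (cj_mono _ (r1.le.trans inf_le_right))
  have c2 := card_le c1
  rw [card_cj, h.card, cardC s n] at c2
  have c3 := card_le d
  rw [card_cj, card_cj, h.card] at c3
  have x2 : x * x = 1 := h.inj (by
    rw [map_mul, map_one]; exact cjsq (ι := ι) (g := k⁻¹) (x := u0) (by rw [← e]; group) (by decide))
  by_cases m : x ∈ U0
  · have := card_le (show T0 ≤ C1[x] from (JS.ZT ▸ cent_symm inf_le_right : T0 ≤ C[U0]).trans (C_le_C1 m))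
    rw [card_T0] at this
    omega
  · have ab : Abelem 2 R := by
      rw [← eq_of_card_le d (by rw [card_cj, card_cj, h.card, cardC x2 m]; exact c2)]
      refine ((Abelem.map ?_ ι).cj _).cj _
      rcases C_E t x2 m with j | j <;> rw [j]
      exacts [ab_E, ab_F]
    have := ab.pow _ (r2 (mem_im q0_C))
    rw [← map_pow, ← map_one ι, h.eq] at this
    exact absurd this (by decide)

/-- `u` and `v` are conjugate in `C(z)` -/
theorem uv (t : x ∈ T0) (e : Cj H (ι x) (ι u0)) : Cj (H ⊓ C1[ι z0]) (ι u0) (ι v0) := by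
  obtain ⟨g, a, l, m⟩ := h.uU t e
  obtain ⟨σ, q⟩ := h.pull l
  have s : σ z0 ∈ U0 := by
    rw [← q.sq q0_C (by decide)]
    exact sq_U _ (by rw [q.sq q0_C (show q0 * q0 = z0 by decide)]; exact q.sq1 z_C (by decide))
  have key : ∀ g ∈ H, g * ι z0 * g⁻¹ = ι z0 → g * ι u0 * g⁻¹ ∈ U0.map ι → Cj (H ⊓ C1[ι z0]) (ι u0) (ι v0) := by
    rintro g a b ⟨y, c, d⟩
    refine Cj.trans ⟨g, ⟨a, mem_C1.2 (mul_inv_eq_iff_eq_mul.1 b)⟩, d.symm⟩ (h.cz.cj' (U_cases y c ?_ ?_))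
    · rintro rfl
      exact h.ne_one (show u0 ≠ 1 by decide) (by simpa using d.symm)
    · rintro rfl
      exact absurd (h.inj (show ι z0 = ι u0 by simpa using b.trans d)) (by decide)
  by_cases c : σ z0 = z0
  · exact key g a ((q.eq z0 z_C).symm.trans (congrArg ι c)) m
  · have s1 := q.ne1 z_C (by decide)
    obtain ⟨n, b, d⟩ := h.trU ((q.cj a z_C).trans (h.cj' (U_cases _ s s1 c))) (mem_im s) (h.ne_one s1)
    refine key (n⁻¹ * g) (mul_mem (inv_mem b.1) a) ?_ ?_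
    · rw [show n⁻¹ * g * ι z0 * (n⁻¹ * g)⁻¹ = n⁻¹ * (g * ι z0 * g⁻¹) * n by group, ← q.eq z0 z_C, ← d]; group
    · rw [show n⁻¹ * g * ι u0 * (n⁻¹ * g)⁻¹ = n⁻¹ * (g * ι u0 * g⁻¹) * n by group]
      exact conj_mem' (h.NT_NU b.2) m

/-- `z` and `v` are conjugate unless `z` is isolated -/
theorem zv (uv : Cj H (ι u0) (ι v0)) (n : x ≠ z0) (e : Cj H (ι z0) (ι x)) : Cj H (ι z0) (ι v0) := by
  have x2 : x * x = 1 := h.inj (by
    obtain ⟨k, -, e⟩ := e
    rw [map_mul, map_one]; exact cjsq e (by decide))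
  have k : ∀ x ∈ U0, x ≠ z0 → Cj H (ι z0) (ι x) → Cj H (ι z0) (ι v0) := fun x a n e => e.trans (h.cj' (U_cases x a (by
    rintro rfl
    obtain ⟨k, -, e⟩ := e
    exact h.ne_one (show z0 ≠ 1 by decide) (by simpa using e)) n))
  rcases invs x x2 with a | a | ⟨a, b⟩
  · exact k x a n e
  · exact (e.trans (h.cj' a)).trans uv
  have t : x ∈ T0 := b.elim (fun c => E_T c) fun c => F_T c
  obtain ⟨g, c, d, l⟩ := h.toZ e.symm
  obtain ⟨σ, q⟩ := h.pull l
  have vC : v0 ∈ C1[x] := mem_C1.2 ((ZT' v0 (U_T v_U)).2 v_U x t).symm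
  have s : σ x = z0 := h.inj ((q.eq x (mem_C1_self x)).trans d)
  have e1 : Cj H (ι z0) (ι (z0 * σ v0)) := by
    have := q.cj c (mul_mem (mem_C1_self x) vC)
    rw [q.mul _ (mem_C1_self x) _ vC, s] at this
    exact (e.trans (h.cj' (cj_v x t x2 a))).trans this
  have e2 := q.cj c vC
  by_cases m : σ v0 ∈ U0
  · by_cases i : σ v0 = z0
    · exact (i ▸ e2 : Cj H (ι v0) (ι z0)).symm
    · exact k _ (mul_mem z_U m) (fun j => q.ne1 vC (by decide) (mul_eq_left.1 j)) e1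
  · exact e1.trans (e2.trans (h.cj' (cj_z _ (q.sq1 vC (by decide)) m))).symm

/-- the `Z*`-theorem -/
theorem zstar (n : ∀ x, Cj H (ι z0) (ι x) → x = z0) : H ≤ O[{2}ᶜ](H) ⊔ H ⊓ C1[ι z0] := by
  have i := ZD.isn_of_iso h.ordz (h.mem _) fun g a b => by
    obtain ⟨y, -, c, d, e⟩ := h.cz.inv_in (w := g * ι z0 * g⁻¹)
      ⟨conj_mem (normG _ a) (h.mem _), mem_C1'.2 b⟩ (cjsq rfl (by decide))
    rw [n y (Cj.trans ⟨g, a, rfl⟩ ⟨c, d.1, e⟩)] at e
    calc g * ι z0 * g⁻¹ = c⁻¹ * (c * (g * ι z0 * g⁻¹) * c⁻¹) * c := by group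
      _ = ι z0 := by rw [e, mul_assoc, ← mem_C1.1 d.2]; group
  exact i.le_of le_sup_left le_sup_right

end TJ

/-- the fusion in a simple group -/
theorem TJ.fus [IsSimpleGroup G] (h : TJ ι ⊤) :
    O[{2}ᶜ]((⊤ : Subgroup G)) = ⊥ ∧ Cj C1[ι z0] (ι u0) (ι v0) ∧ Cj ⊤ (ι z0) (ι v0) := by
  have nz : ∀ N : Subgroup G, ⊤ ≤ N[N] → N = ⊥ ∨ N = ⊤ := fun N n => (normal_iff.2 n).eq_bot_or_eq_top
  have o : O[{2}ᶜ]((⊤ : Subgroup G)) = ⊥ := (nz _ (O_norm _ _)).resolve_right fun e =>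
    h.ne_one (show z0 ≠ 1 by decide) (((rg_pig ι).elt (mem_rg z0)).eq_one ((O_pig _ _).elt (e ▸ mem_top _)))
  have no : ∀ N : Subgroup G, N.index ≠ 2 := fun N e => by
    rcases (normal_of_index_eq_two e).eq_bot_or_eq_top with rfl | rfl
    · have := card_le h.le
      rw [h.card_rg, card_top, ← index_bot, e] at this
      omega
    · simp at e
  obtain ⟨g, x, a, e⟩ := H8.exists_conj_mem (Q := T0.map ι) no h.syl (by
    have := card_mul_relIndex (map_le (ι := ι) T0)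
    rw [h.card, card_T0, h.card_rg] at this
    rw [show (T0.map ι).relIndex ι.range = 2 by omega]) (h.ord (x := u0) (by decide) (by decide))
  have uv := h.uv a (Cj.symm ⟨g, mem_top g, e.symm⟩)
  refine ⟨o, uv.mono inf_le_right, ?_⟩
  by_cases n : ∀ x, Cj ⊤ (ι z0) (ι x) → x = z0
  · have c := h.zstar n
    rw [o, bot_sup_eq, top_inf_eq] at c
    rcases nz _ (norm_zpowers c) with d | d
    · exact (h.ne_one (show z0 ≠ 1 by decide) (mem_bot.1 (d ▸ mem_zpowers _))).elim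
    · have := card_le (h.le.trans d.ge)
      rw [h.card_rg, card_zpowers', h.ordz] at this
      omega
  · push Not at n
    obtain ⟨y, b, c⟩ := n
    exact h.zv (uv.mono inf_le_left) c b

end Cfsg.Agent.JS
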