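import Cfsg.Agent.JS.Tr
import Cfsg.Agent.JS.CA

/-! # The core of `C(z)` is trivial -/

set_option autoImplicit false
set_option linter.unusedVariables false
set_option linter.unusedSectionVars false

namespace Cfsg.Agent.JS
open Cfsg Cfsg.Agent.BG Subgroup PHom
open Cfsg.Agent.Comp (QS CompIn)
open Cfsg.Agent.S3F (p2 SCl)
open Cfsg.Agent.GF (Lx Pr Cp Tr bar ih_all)

universe u

variable {G : Type u} [Group G] [Finite G] {ι : Sg →* G} {H I K P R R' U V X Y : Subgroup G} {x y : Sg}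
  {a b g w : G} {p : ℕ}

open Cfsg.Agent.G75 (Q Q_le Q_odd)
open Cfsg.Agent.SFT (Gen le_Gen Gen_le norm_Gen)

variable {G' : Type u} [Group G'] [Finite G'] {φ : PHom G G'} {n : ℕ}

theorem cj_lift (o : PiG {2}ᶜ φ.ker) (ha : a ∈ φ.dom) (hb : b ∈ φ.dom) (pa : PiE {2} a) (pb : PiE {2} b)
    (e : φ.app b = φ.app a) : ∃ k ∈ φ.ker, k * b * k⁻¹ = a := by
  have qa := pig_zpowers.2 pa
  have qb := pig_zpowers.2 pb
  obtain ⟨k, k1, k2⟩ := sz_sub (A := zpowers b) (B := zpowers a) ((zpowers_le.2 hb).trans dom_norm_ker)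
    (zpowers_le.2 (by
      rw [show a = b * (b⁻¹ * a) by group]
      exact mul_mem (mem_sup_right (mem_zpowers b)) (mem_sup_left ((app_eq_iff hb ha).1 e))))
    (qb.coprime o) (qa.coprime o) (.inl qb.sol)
  obtain ⟨c, c1, rfl⟩ := exists_of_mem_cj (k2 (mem_zpowers a))
  have cd := zpowers_le.2 hb c1
  rw [app_conj (ker_le_dom k1) cd, (mem_ker.1 k1).2, one_mul, inv_one, mul_one] at e
  have : b = c := inv_mul_eq_one.1 (mem_bot.1 (qb.inf_bot o ▸ mem_inf.2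
    ⟨mul_mem (inv_mem (mem_zpowers b)) c1, (app_eq_iff hb cd).1 e⟩))
  exact ⟨k, k1, by rw [← this]⟩

theorem Two.push (two : Two ι K) (h : TJ ι K) (d : K ≤ φ.dom) (k : φ.ker ≤ K) (o : PiG {2}ᶜ φ.ker) :
    Two (push φ ι (h.le.trans d)) (φ.im K) := fun x a b c g' hg y f e => by
  obtain ⟨g, i, rfl⟩ := (PHom.mem_im' d).1 hg
  rw [push_app, push_app, ← app_conj (d i) (d (h.mem x))] at e
  obtain ⟨m, m1, m2⟩ := cj_lift o (d (h.mem y)) (d (conj_mem (normG _ i) (h.mem x))) ((rg_pig ι).elt (mem_rg y))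
    (pie_conj.2 ((rg_pig ι).elt (mem_rg x))) e
  exact two x a b c (m * g) (mul_mem (k m1) i) y f (by rw [← m2]; group)

/-- the induction hypothesis -/
def JT (n : ℕ) : Prop := ∀ (G : Type u) [Group G] [Finite G] (ι : Sg →* G), Nat.card G < n → TJ ι ⊤ → Two ι ⊤ →
  ∀ X : Subgroup G, PiG {2}ᶜ X → T0.map ι ≤ N[X] → X ≤ O[{2}ᶜ]((⊤ : Subgroup G))

theorem JT.im (ih : JT.{u} n) (h : TJ ι K) (two : Two ι K) (d : K ≤ φ.dom) (k : φ.ker ≤ K) (o : PiG {2}ᶜ φ.ker)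
    (e : φ.im K = ⊤) (lt : Nat.card G' < n) (l : X ≤ K) (od : PiG {2}ᶜ X) (t : T0.map ι ≤ N[X]) :
    X ≤ O[{2}ᶜ](K) := by
  have := ih G' _ lt (e ▸ h.push d o) (e ▸ two.push h d k o) (φ.im X) (od.im φ) (by rw [push_map]; exact im_norm t)
  rw [← e, ← le_pre_iff (l.trans d), pre_O d k o] at this
  exact this

theorem TJ.caseA' (h : TJ ι ⊤) (t : T0.map ι ≤ K) (sc : SCl K (U0.map ι)) (l : X ≤ K) (od : PiG {2}ᶜ X)
    (n : T0.map ι ≤ N[X]) : X ≤ O[{2}ᶜ](K) := by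
  have k := h.caseA le_top t sc
  have pT := map_pig (ι := ι) T0
  have nO : K ⊓ N[U0.map ι] ≤ N[O[{2}ᶜ](K)] := inf_le_left.trans (O_norm _ _)
  have oY := (O_pig {2}ᶜ K).sup_l od (l.trans (O_norm _ _))
  have o1 := oY.of_le (inf_le_right (a := K ⊓ N[U0.map ι]))
  have n1 := normI (normI (normsG t) (normsG (T_cU.trans (C_le_N _)))) (normY (t.trans (O_norm {2}ᶜ K)) n)
  have c : K ⊓ N[U0.map ι] ⊓ (O[{2}ᶜ](K) ⊔ X) ≤ C[U0.map ι] :=
    (cop_cent_prod n1 (pT.coprime o1) (.inl pT.sol)).sup.ge.trans (sup_le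
      ((commS (inf_le_left.trans inf_le_right) T_cU).trans (commR (normC le_rfl)))
      (inf_le_right.trans (centS (map_mono U_T))))
  have zU := C_le_C1 (mem_im (ι := ι) z_U)
  have c2 := (le_inf (((le_inf (h.pz big_T (c.trans zU) o1 n1) c).trans (O_inf_le _ zU)).trans
    (O_le_of_normal _ (C_le_N _) (normC le_rfl))) inf_le_left).trans (O_inf_le _ inf_le_right)
  have c3 : O[{2}ᶜ](K) ⊔ O[{2}ᶜ](K ⊓ N[U0.map ι]) ≤ O[{2}ᶜ](K) :=
    le_O (sup_le (O_le _ _) ((O_le _ _).trans inf_le_left))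
      (k.trans (sup_le (normsG le_sup_left) (normY nO (O_norm _ _))))
      ((O_pig _ _).sup_l (O_pig _ _) ((O_le _ _).trans nO))
  exact (le_inf (l.trans k) le_sup_right).trans ((modl_l nO le_sup_left).le.trans ((sup_le_sup_left c2 _).trans c3))

theorem JT.sub (ih : JT.{u} (Nat.card G)) (h : TJ ι ⊤) (two : Two ι ⊤) : Sub (T0.map ι) := fun K ne t X l od n => by
  obtain ⟨R, r1, r2⟩ := syl_superset p2 t (map_pig _)
  rcases r2.eq_or_lt with rfl | lt
  · refine h.caseA' t (GF.scl_syl r1 ?_) l od n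
    rintro _ ⟨y, a, rfl⟩ g - ⟨x, b, e⟩
    exact e ▸ mem_im (by_contra fun c => two x b (h.inj (by
      rw [map_mul, map_one]; exact cjsq e.symm ((pow_two y).symm.trans (ab_U.pow y a)))) c g⁻¹ (mem_top _) y a
      (by rw [e]; group))
  obtain ⟨g, -, i⟩ := h.cj_sub le_top r1.pi
  have j := h.normT ((cj_mono g r2).trans i)
  have e : R = BG.cj g⁻¹ ι.range := by
    refine eq_of_card_le (cj_le_iff.1 i) ?_
    have a := card_lt lt
    have b := cardS i
    rw [h.card, card_T0] at a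
    rw [card_cj, h.card_rg] at b ⊢
    obtain ⟨c, hc⟩ := b
    rcases c with _ | _ | c
    · omega
    · omega
    · nlinarith
  have m : ∀ A : Subgroup Sg, A.map ((MulAut.conj g⁻¹).toMonoidHom.comp ι) = BG.cj g⁻¹ (A.map ι) :=
    fun A => (map_map _ _ _).symm
  refine ih.im (ι := (MulAut.conj g⁻¹).toMonoidHom.comp ι) (φ := rst K) ⟨(cj_inj _).comp h.inj, ?_⟩
    (fun x a b c k _ y d f => two x a b c (g * k * g⁻¹) (mem_top _) y d ?_) le_rfl (by rw [rst_ker]; exact bot_le)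
    (by rw [rst_ker]; exact pig_bot _) (rst_im_self K) (card_top (G := G) ▸ card_lt (lt_top_iff_ne_top.2 ne)) l od ?_
  · rwa [MonoidHom.range_eq_map, m, ← MonoidHom.range_eq_map, ← e]
  · have : k * (g⁻¹ * ι x * g⁻¹⁻¹) * k⁻¹ = g⁻¹ * ι y * g⁻¹⁻¹ := f
    calc _ = g * (k * (g⁻¹ * ι x * g⁻¹⁻¹) * k⁻¹) * g⁻¹ := by group
      _ = _ := by rw [this]; group
  · rwa [m, cj_of_mem_N (inv_mem j)]

theorem jt (n : ℕ) : JT.{u} n := by
  induction n with
  | zero => exact fun _ _ _ _ a => absurd a (Nat.not_lt_zero _)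
  | succ n ih =>
  intro G _ _ ι lt h two X od t
  replace ih : JT.{u} (Nat.card G) := fun G' _ _ κ a => ih G' κ (by omega)
  by_cases o : O[{2}ᶜ]((⊤ : Subgroup G)) = ⊥
  swap
  · have d : ⊤ ≤ N[O[{2}ᶜ]((⊤ : Subgroup G))] := O_norm _ _
    have e : ⊤ ÷ O[{2}ᶜ]((⊤ : Subgroup G)) = ⊤ := top_le_iff.1 ((quo_top _).ge.trans (im_mono le_top))
    refine ih.im (φ := quo _) h two d le_top (by rw [quo_ker]; exact O_pig _ _) e ?_ le_top od t
    have := card_quo_lt d le_top o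
    rwa [e, card_top, card_top] at this
  by_cases sc : ∀ x ∈ U0.map ι, ∀ g ∈ (⊤ : Subgroup G), g * x * g⁻¹ ∈ ι.range → g * x * g⁻¹ ∈ U0.map ι
  · exact h.caseA' le_top (GF.scl_syl h.syl sc) le_top od t
  push Not at sc
  obtain ⟨_, ⟨y, a, rfl⟩, g, -, ⟨x, e⟩, b⟩ := sc
  have x2 : x * x = 1 := h.inj (by
    rw [map_mul, map_one]; exact cjsq e.symm ((pow_two y).symm.trans (ab_U.pow y a)))
  have xU : x ∉ U0 := fun c => b (e ▸ mem_im c)
  have uv := (h.uv (U_T a) (Cj.trans ⟨g, mem_top g, e.symm⟩ (h.cj' (((invs x x2).resolve_left xU).resolve_right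
    fun c => two x (c.2.elim (fun d => E_T d) fun d => F_T d) x2 xU g⁻¹ (mem_top _) y a
      (by rw [e]; group))))).mono inf_le_right
  by_cases iso : ∀ x, Cj ⊤ (ι z0) (ι x) → x = z0
  · have c := h.zstar iso
    rw [o, bot_sup_eq, top_inf_eq] at c
    exact (h.pz big_T (le_top.trans c) od t).trans (by rw [Q, top_le_iff.1 c])
  push Not at iso
  obtain ⟨s, s1, s2⟩ := iso
  have zv := h.zv (uv.mono le_top) s2 s1
  have oW := h.sft zv fun e he m => h.thOdd zv uv o (ih.sub h two) two he m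
  exact (h.le_W zv od ((map_mono E_T).trans t)).trans
    (le_O le_top (h.top2 zv uv (h.cW zv uv oW) (N_Gen _) o two).ge oW)

theorem TJ.core [IsSimpleGroup G] (h : TJ ι ⊤) : O[{2}ᶜ](C1[ι z0]) = ⊥ := by
  obtain ⟨o, uv, zv⟩ := h.fus
  rw [← le_bot_iff, ← o]
  by_cases two : Two ι ⊤
  · exact jt _ G ι (Nat.lt_succ_self _) h two _ (Q_odd _) (G75.nQ ((map_le _).trans rg_cen))
  simp only [Two, not_forall, not_not] at two
  obtain ⟨x, a, x2, b, g, -, y, c, e⟩ := two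
  have nQ0 : ∀ x ∈ T0, x * x = 1 → x ∉ U0 → x ∉ Q0 := by decide +kernel
  have xz : Cj ⊤ (ι x) (ι z0) := Cj.trans ⟨g, mem_top g, e⟩ ((h.trU zv (mem_im c) fun d => b (by
    rw [h.inj (show ι x = ι 1 by simpa [d] using e)]; exact one_mem _)).symm.mono le_top)
  have one : ∀ x ∈ E0, x ∉ U0 → Cj ⊤ (ι x) (ι z0) := fun x' a' b' =>
    have s := (pow_two x').symm.trans (ab_E.pow x' a')
    (((h.sub rg_cen le_top).ee le_rfl uv s (nQ0 x' (E_T a') s b') x2 (nQ0 x a x2 b)).mono le_top).trans xz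
  have oW := h.sft zv (by
    rintro _ ⟨x, a, rfl⟩ m
    have b : x ∉ U0 := fun c => m (mem_im c)
    obtain ⟨g, -, e, l⟩ := h.toZ (one x a b)
    exact (Q_odd (ι x)).of_le (Gen_le fun s hs _ => h.pe e ((cj_mono _ (map_mono (ab_E.abel.trans (C_le_C1 a)))).trans l)
      (ab_E.map ι) ((h.card _).trans card_E0) inf_le_right ((Q_odd s).of_le inf_le_left)
      (normI (G75.nQ (E_c (mUE hs))) (normsG (E_c (mem_im a))))))
  exact (le_Gen (θ := Q) (mem_im z_U) (h.ne_one (by decide))).trans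
    (le_O le_top (h.top1 zv uv (h.cW zv uv oW) (N_Gen _) (h.NE_W zv) one).ge oW)

end Cfsg.Agent.JS
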