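import Cfsg.Agent.JS.Def
import Cfsg.Agent.HJ.Ico4
import Cfsg.Agent.S1619

/-! # The Sylow `2`-subgroup of `J₂` is `Sg` -/

set_option autoImplicit false
set_option linter.unusedVariables false
set_option linter.unusedSectionVars false

namespace Cfsg.Agent.JS
open Cfsg Cfsg.Agent.BG Subgroup PHom
open Cfsg.Agent.Comp (QS CompIn)
open Cfsg.Agent.S3F (p2 SCl)
open Cfsg.Agent.GF (Lx Pr Cp Tr bar ih_all)

universe u

variable {G : Type u} [Group G] [Finite G] {ι : Sg →* G} {H I K P R R' U V X Y : Subgroup G} {x y : Sg}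
  {a b g w : G} {p : ℕ}

theorem hom_of_gens {A B : Type*} [Monoid A] [Monoid B] (f : A → B) (gs : List A) (w : A → List A) (h1 : f 1 = 1)
    (hw : ∀ y, (w y).prod = y ∧ ∀ g ∈ w y, g ∈ gs) (h : ∀ g ∈ gs, ∀ x, f (x * g) = f x * f g) (x y : A) :
    f (x * y) = f x * f y := by
  have k : ∀ l : List A, (∀ g ∈ l, g ∈ gs) → ∀ x, f (x * l.prod) = f x * (l.map f).prod := fun l => by
    induction l with
    | nil => simp
    | cons g l ih =>
      intro a x
      rw [List.prod_cons, ← mul_assoc, ih fun g i => a g (.tail _ i), h g (a g (.head _))]; simp [mul_assoc]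
  have := k _ (hw y).2 1
  rw [one_mul, h1, one_mul, (hw y).1] at this
  rw [this, ← k _ (hw y).2, (hw y).1]

/-- a normal form -/
def nf {α : Type} (x : Sg) (a a' b b' c c' d : List α) : List α :=
  (bif x.a.1 then a else []) ++ (bif x.a.2 then a' else []) ++ (bif x.b.1 then b else []) ++
    (bif x.b.2 then b' else []) ++ (bif (x.c + x.a * x.b).1 then c else []) ++
    (bif (x.c + x.a * x.b).2 then c' else []) ++ bif x.e then d else []

/-- the generators in the model -/
noncomputable def gS : List HJ.Γ := [HJ.a0, HJ.c0, HJ.s0, HJ.t0, HJ.z0, HJ.q0, HJ.r0]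
/-- the map to the model -/
noncomputable def fS (x : Sg) : HJ.Γ := HJ.ev (HJ.atm gS) (nf x [0] [2] [12, 4, 0] [12, 6, 0, 2] [8] [10] [12])

theorem fS_mul : ∀ g ∈ [e0, e1, u0], ∀ x, fS (x * g) = fS x * fS g := by decide +kernel
theorem fS_inj : ∀ x, fS x = 1 → x = 1 := by decide +kernel

theorem exists_J : ∃ ι : Sg →* Cfsg.Spor.J2, Function.Injective ι := by
  obtain ⟨φ, i, r, -⟩ := HJ.exists_J2
  let f : Sg →* HJ.Γ := MonoidHom.mk' fS (hom_of_gens fS [e0, e1, u0] (fun x => nf x [e0] [e1] [u0, e0, u0]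
    [u0, e0, e1, u0] [e0, u0, e0, u0, e0, u0, e0, u0] [e1, u0, e0, u0, e1, u0, e0, u0] [u0]) rfl (by decide +kernel) fS_mul)
  have m : ∀ x, f x ∈ φ.range := fun x => r ▸ HJ.ev_mem (HJ.atm_mem fun g a => by
    have q : ∀ {g}, g ∈ HJ.gG → g ∈ HJ.clo HJ.gG := HJ.mem_clo
    simp only [gS, List.mem_cons, List.not_mem_nil, or_false] at a
    rcases a with rfl | rfl | rfl | rfl | rfl | rfl | rfl
    · exact q (by simp)
    · rw [HJ.e_c]; exact mul_mem (mul_mem (q (by simp)) (q (by simp))) (inv_mem (q (by simp)))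
    all_goals exact q (by simp)) _
  exact ⟨(MonoidHom.ofInjective i).symm.toMonoidHom.comp (f.codRestrict _ m), fun a b e =>
    (injective_iff_map_eq_one f).2 fS_inj (congrArg Subtype.val ((MonoidHom.ofInjective i).symm.injective e))⟩

theorem exists_iota (S : Sylow 2 G) (P : Sylow 2 Cfsg.Spor.J2)
    (hS : Nonempty (↥(S : Subgroup G) ≃* ↥(P : Subgroup Cfsg.Spor.J2))) : ∃ ι : Sg →* G, TJ ι ⊤ := by
  obtain ⟨e⟩ := hS
  obtain ⟨ι, i⟩ := exists_J
  have c := S1619.result.2.2.2
  haveI : Finite Cfsg.Spor.J2 := Nat.finite_of_card_ne_zero (by rw [c]; decide)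
  let P' : Sylow 2 Cfsg.Spor.J2 := Sylow.ofCard ι.range (by
    rw [← Nat.card_congr (MonoidHom.ofInjective i).toEquiv, Sg.card, c,
      show 604800 = 2 ^ 7 * 4725 from rfl, Nat.factorization_mul (by decide) (by decide), Nat.factorization_pow]
    simp [Nat.factorization_eq_zero_of_not_dvd (show ¬ 2 ∣ 4725 by decide), Nat.prime_two.factorization])
  let E : Sg ≃* S := ((MonoidHom.ofInjective i).trans (P'.equiv P)).trans e.symm
  refine ⟨(S : Subgroup G).subtype.comp E.toMonoidHom, (subtype_injective _).comp E.injective, ?_⟩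
  rw [← MonoidHom.map_range, MonoidHom.range_eq_top.2 E.surjective, ← MonoidHom.range_eq_map, range_subtype]
  exact syl_top p2 S

end Cfsg.Agent.JS
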