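import Cfsg.Agent.JS.A5
import Cfsg.Agent.JS.Fus

/-! # Odd order subgroups of `C(z)` normalised by a large `2`-subgroup -/

set_option autoImplicit false
set_option linter.unusedVariables false
set_option linter.unusedSectionVars false

namespace Cfsg.Agent.JS
open Cfsg Cfsg.Agent.BG Subgroup PHom
open Cfsg.Agent.Comp (QS CompIn)
open Cfsg.Agent.S3F (p2 SCl)
open Cfsg.Agent.GF (Lx Pr Cp Tr bar ih_all)

universe u

variable {G : Type u} [Group G] [Finite G] {ι : Sg →* G} {H I K P R R' U V X Y : Subgroup G} {x y : Sg}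
  {a b g w : G} {p : ℕ}

/-- `B` has few fixed points on `Q / Z` -/
def Big (B : Subgroup Sg) : Prop := v0 ∈ B ∧ ∀ q ∈ Q0, (∀ b ∈ B, q * b * q⁻¹ * b⁻¹ ∈ Z0) → q ∈ U0

theorem big_E : Big E0 := ⟨by decide, by decide +kernel⟩
theorem big_F : Big F0 := ⟨by decide, by decide +kernel⟩
theorem big_T : Big T0 := ⟨by decide, by decide +kernel⟩
theorem der_Q : ⁅Q0, Q0⁆ ≤ Z0 := comm_le_iff.2 (by decide +kernel)
theorem big_sq : ∀ s ∈ U0, s ∉ Z0 → ∀ x : Sg, x * x = s → x * s = s * x → ∀ y : Sg, y * y = s → y * s = s * y →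
    x * y * (x * y) = s → ∀ q ∈ Q0, q * x * q⁻¹ * x⁻¹ ∈ Z0 → q * y * q⁻¹ * y⁻¹ ∈ Z0 → q ∈ U0 := by decide +kernel

variable {B : Subgroup Sg}

namespace TJ

theorem p0' (h : TJ ι H) (c : H ≤ C1[ι z0]) (o : O[{2}ᶜ](H) = ⊥) (b : Big B) (l : X ≤ H) (od : PiG {2}ᶜ X)
    (n : B.map ι ≤ N[X]) : X = ⊥ := by
  have nQ : H ≤ N[Q0.map ι] := by
    have := h.normQ c
    rw [o, bot_sup_eq] at this
    exact this.trans inf_le_right
  have pQ := map_pig (ι := ι) Q0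
  have cv : X ≤ C1[ι v0] := by
    rw [← C_zpowers, ← comm_eq_bot, ← le_bot_iff, ← pQ.inf_bot od]
    exact le_inf ((commS le_rfl (zpowers_le.2 (mem_im (U_Q v_U)))).trans (commR (l.trans nQ)))
      (commL (zpowers_le.2 (n (mem_im b.1))))
  have cU : U0.map ι ≤ C[X] := fun a ha => by
    by_cases a1 : a = 1
    · exact a1 ▸ one_mem _
    rcases mem_U ha a1 with rfl | rfl | rfl
    · exact le_C1_iff.1 (l.trans c)
    · exact le_C1_iff.1 cv
    · rw [map_mul]; exact mul_mem (le_C1_iff.1 cv) (le_C1_iff.1 (l.trans c))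
  have d : H ≤ N[Z0.map ι] := map_Z (ι := ι) ▸ norm_zpowers c
  have dQ := (h.mle Q0).trans d
  have ab : Abel (Q0.map ι ÷ Z0.map ι) := (quo_abel_iff dQ).2 (by rw [← map_commutator]; exact map_mono der_Q)
  have k := cop_abel_C_comm ab (im_norm (l.trans nQ)) ((pQ.im _).coprime (od.im _)).symm
  have e : ⁅Q0.map ι ÷ Z0.map ι, X ÷ Z0.map ι⁆ = ⊥ := by_contra fun e => by
    have lq : ⁅Q0.map ι ÷ Z0.map ι, X ÷ Z0.map ι⁆ ≤ Q0.map ι ÷ Z0.map ι := commL (im_norm (l.trans nQ))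
    obtain ⟨r, ⟨r1, r2⟩, r3⟩ := exists_mem_ne_one (((pQ.im _).of_le lq).meet_C ((map_pig (ι := ι) B).im _)
      (normR (im_norm ((h.mle B).trans nQ)) (im_norm n)) e)
    obtain ⟨_, ⟨q, q1, rfl⟩, rfl⟩ := (PHom.mem_im' dQ).1 (lq r1)
    have m : q ∈ U0 := b.2 q q1 fun s hs => by
      have := (quo_cent_iff (zpowers_le.2 (d (h.mem q))) ((h.mle B).trans d)).1 (by
        rw [im_zpowers (d (h.mem q))]; exact zpowers_le.2 r2) (comm_mem (mem_zpowers _) (mem_im hs))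
      rwa [← map_inv, ← map_inv, ← map_mul, ← map_mul, ← map_mul, h.mem_iff] at this
    exact r3 (mem_bot.1 (k ▸ mem_inf.2 ⟨r1, im_cent cU (app_mem_im (mem_im m) (d (h.mem q)))⟩))
  have cQ := cop_stable ((map_pig (ι := ι) Z0).coprime od).symm
    ((quo_cent_iff dQ (l.trans d)).1 (comm_eq_bot.1 e)) ((map_mono Z_U).trans cU)
  exact ((map_pig Z0).of_le ((le_inf l (cent_symm cQ)).trans (h.cQ c o))).eq_bot od

theorem p0 (h : TJ ι H) (c : H ≤ C1[ι z0]) (b : Big B) (l : X ≤ H) (od : PiG {2}ᶜ X) (n : B.map ι ≤ N[X]) :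
    X ≤ O[{2}ᶜ](H) := by
  have d : H ≤ (quo O[{2}ᶜ](H)).dom := O_norm _ _
  refine (quo_bot_iff (l.trans d)).1 ((h.push d (by rw [quo_ker]; exact O_pig _ _)).p0' ?_ (O_quo_O _ _) b
    (im_mono l) (od.im _) ?_)
  · rw [push_app]; exact im_C1 (d (h.mem _)) c
  · rw [push_map]; exact im_norm n

end TJ

open Cfsg.Agent.G75 (Q nQ Q_le Q_odd)

theorem cj_Q (g a : G) : BG.cj g (Q a) = Q (g * a * g⁻¹) := by rw [Q, cj_O, cj_C1]

namespace TJ
variable (h : TJ ι ⊤)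
include h

theorem pz (b : Big B) (l : X ≤ C1[ι z0]) (od : PiG {2}ᶜ X) (n : B.map ι ≤ N[X]) : X ≤ Q (ι z0) :=
  (h.sub rg_cen le_top).p0 le_rfl b l od n

/-- the version for a conjugate `a` of `z` and an elementary abelian group of order `16` -/
theorem pe (e : g * a * g⁻¹ = ι z0) (l : BG.cj g V ≤ ι.range) (ab : Abelem 2 V) (c : #V = 16) (l1 : X ≤ C1[a])
    (od : PiG {2}ᶜ X) (n : V ≤ N[X]) : X ≤ Q a := by
  rw [← cj_le_cj (g := g), cj_Q, e]
  have l2 : BG.cj g X ≤ C1[ι z0] := by rw [← e, ← cj_C1]; exact cj_mono _ l1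
  have n2 := (norm_cj (g := g)).2 n
  rcases h.el l (ab.cj g) ((card_cj _ _).trans c) with i | i <;> rw [i] at n2
  exacts [h.pz big_E l2 (od.cj g) n2, h.pz big_F l2 (od.cj g) n2]

theorem pU (zv : Cj ⊤ (ι z0) (ι v0)) (ha : a ∈ U0.map ι) (a1 : a ≠ 1) (l1 : X ≤ C1[a]) (od : PiG {2}ᶜ X)
    (n : E0.map ι ≤ N[X]) : X ≤ Q a := by
  obtain ⟨g, b, e⟩ := (h.trU zv ha a1).symm
  exact h.pe e ((cj_le_of_mem (map_mono E_T) b.2).trans (map_le _)) (ab_E.map ι) ((h.card _).trans card_E0) l1 od n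

/-- the `Q₈` trick -/
theorem pu (uz : Cj ⊤ (ι u0) (ι z0)) (l1 : X ≤ C1[ι u0]) (od : PiG {2}ᶜ X) (n : C1[u0].map ι ≤ N[X]) :
    X ≤ Q (ι u0) := by
  obtain ⟨g, -, e, l⟩ := h.toZ uz
  obtain ⟨σ, q⟩ := h.pull l
  rw [← cj_le_cj (g := g), cj_Q, e]
  have su : σ u0 = z0 := h.inj ((q.eq _ (mem_C1_self _)).trans e)
  have s : σ z0 ∈ U0 := by
    rw [← q.sq q0_C (by decide)]
    exact sq_U _ (by rw [q.sq q0_C (show q0 * q0 = z0 by decide)]; exact q.sq1 z_C (by decide))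
  have s' : σ z0 ∉ Z0 := fun m => ((mem_Z0 _).1 m).elim (q.ne1 z_C (by decide))
    fun i => q.ne z_C (mem_C1_self _) (by decide) (i.trans su.symm)
  refine h.pz (B := (BG.cj g (C1[u0].map ι)).comap ι) ⟨?_, fun r hr m => big_sq _ s s' _ (q.sq q0_C (by decide))
    (q.cm q0_C z_C (by decide)) _ (q.sq q1_C (by decide)) (q.cm q1_C z_C (by decide)) ?_ r hr
    (m _ (q.mem q0_C)) (m _ (q.mem q1_C))⟩ (by rw [← e, ← cj_C1]; exact cj_mono _ l1) (od.cj g)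
    ((map_comap_le _ _).trans (norm_cj.2 n))
  · have a : σ z0 ∈ (BG.cj g (C1[u0].map ι)).comap ι := q.mem z_C
    have b : z0 ∈ (BG.cj g (C1[u0].map ι)).comap ι := su ▸ q.mem (mem_C1_self _)
    rcases (by decide +kernel : ∀ s ∈ U0, s ∉ Z0 → v0 = s ∨ v0 = s * z0) _ s s' with i | i <;> rw [i]
    exacts [a, mul_mem a b]
  · rw [← q.mul _ q0_C _ q1_C]
    exact q.sq (mul_mem q0_C q1_C) (by decide)

end TJ

end Cfsg.Agent.JS
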