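import Mathlib.Algebra.Group.MinimalAxioms
import Mathlib.Algebra.Ring.MinimalAxioms
import Mathlib.Algebra.Group.Subgroup.Basic
import Mathlib.Data.Fintype.Card
import Mathlib.SetTheory.Cardinal.Finite
import Mathlib.Tactic.LinearCombination
import Mathlib.Tactic.Ring

/-! # The group `Sg` of order `128`: unitriangular matrices of `L₃(4)` extended by the unitary involution

`(a, b, c, e)` is the matrix with entries `a, b` above the diagonal and `c` in the corner, times `u ^ e`.
Every statement about finitely many elements is checked by `decide +kernel`. -/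

set_option autoImplicit false

namespace Cfsg.Agent.JS

/-- the field with four elements `x0 + x1 ω` -/
structure F4 where
  x0 : Bool
  x1 : Bool
deriving DecidableEq

namespace F4
def all : List F4 := [⟨false, false⟩, ⟨true, false⟩, ⟨false, true⟩, ⟨true, true⟩]
theorem mem_all : ∀ x : F4, x ∈ all := by rintro ⟨_ | _, _ | _⟩ <;> decide
instance (p : F4 → Prop) [DecidablePred p] : Decidable (∀ x, p x) :=
  decidable_of_iff (∀ x ∈ all, p x) ⟨fun h x => h x (mem_all x), fun h x _ => h x⟩
instance : Zero F4 := ⟨⟨false, false⟩⟩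
instance : One F4 := ⟨⟨true, false⟩⟩
instance : Add F4 := ⟨fun x y => ⟨xor x.1 y.1, xor x.2 y.2⟩⟩
instance : Neg F4 := ⟨id⟩
instance : Mul F4 :=
  ⟨fun x y => ⟨xor (x.1 && y.1) (x.2 && y.2), xor (xor (x.1 && y.2) (x.2 && y.1)) (x.2 && y.2)⟩⟩
instance : CommRing F4 := CommRing.ofMinimalAxioms (by decide) (by decide) (by decide) (by decide) (by decide)
  (by decide) (by decide)
def w : F4 := ⟨false, true⟩
def cj (x : F4) : F4 := ⟨xor x.1 x.2, x.2⟩
theorem cj_add : ∀ x y : F4, cj (x + y) = cj x + cj y := by decide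
theorem cj_mul : ∀ x y : F4, cj (x * y) = cj x * cj y := by decide
theorem cj_cj : ∀ x : F4, cj (cj x) = x := by decide
theorem two : (2 : F4) = 0 := by decide
end F4
open F4

@[ext] structure Sg where
  a : F4
  b : F4
  c : F4
  e : Bool
deriving DecidableEq

namespace Sg
def all : List Sg := [false, true].flatMap fun e => F4.all.flatMap fun a => F4.all.flatMap fun b =>
  F4.all.map fun c => ⟨a, b, c, e⟩
theorem mem_all (x : Sg) : x ∈ all := by
  obtain ⟨a, b, c, e⟩ := x
  simp only [all, List.mem_flatMap, List.mem_map]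
  exact ⟨e, by cases e <;> decide, a, F4.mem_all a, b, F4.mem_all b, c, F4.mem_all c, rfl⟩
instance (p : Sg → Prop) [DecidablePred p] : Decidable (∀ x, p x) :=
  decidable_of_iff (∀ x ∈ all, p x) ⟨fun h x => h x (mem_all x), fun h x _ => h x⟩
instance (p : Sg → Prop) [DecidablePred p] : Decidable (∃ x, p x) :=
  decidable_of_iff (∃ x ∈ all, p x) ⟨fun ⟨x, _, h⟩ => ⟨x, h⟩, fun ⟨x, h⟩ => ⟨x, mem_all x, h⟩⟩
instance : Fintype Sg := Fintype.ofList all mem_all

def mul (x y : Sg) : Sg := match x.e with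
  | false => ⟨x.a + y.a, x.b + y.b, x.c + y.c + x.a * y.b, y.e⟩
  | true => ⟨x.a + cj y.b, x.b + cj y.a, x.c + (cj y.c + cj y.a * cj y.b) + x.a * cj y.a, !y.e⟩
def inv (x : Sg) : Sg := match x.e with
  | false => ⟨x.a, x.b, x.c + x.a * x.b, false⟩
  | true => ⟨cj x.b, cj x.a, cj x.c, true⟩
instance : Mul Sg := ⟨mul⟩
instance : One Sg := ⟨⟨0, 0, 0, false⟩⟩
instance : Inv Sg := ⟨inv⟩

theorem assoc (x y z : Sg) : mul (mul x y) z = mul x (mul y z) := by
  obtain ⟨a, b, c, _ | _⟩ := x <;> obtain ⟨a', b', c', _ | _⟩ := y <;> obtain ⟨a'', b'', c'', e⟩ := z <;>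
    refine Sg.ext ?_ ?_ ?_ ?_ <;>
    simp only [mul, Bool.not_true, Bool.not_false, Bool.not_not, cj_add, cj_mul, cj_cj] <;>
    first | ring1 | skip
  · linear_combination (-(cj a' * cj b'')) * two
  · linear_combination (-(a'' * b'' + cj a' * a'')) * two

instance : Group Sg := Group.ofLeftAxioms assoc (by decide +kernel) (by decide +kernel)

theorem card : Nat.card Sg = 128 := by rw [Nat.card_eq_fintype_card]; decide +kernel

/-- a subgroup given by a test -/
def sub (p : Sg → Bool) (h1 : p 1 = true) (h2 : ∀ x, p x = true → ∀ y, p y = true → p (x * y) = true)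
    (h3 : ∀ x, p x = true → p x⁻¹ = true) : Subgroup Sg :=
  ⟨⟨⟨{x | p x = true}, fun hx hy => h2 _ hx _ hy⟩, h1⟩, fun hx => h3 _ hx⟩
end Sg
open Sg

def z0 : Sg := ⟨0, 0, 1, false⟩
def v0 : Sg := ⟨0, 0, w, false⟩
def u0 : Sg := ⟨0, 0, 0, true⟩
def e0 : Sg := ⟨1, 0, 0, false⟩
def e1 : Sg := ⟨w, 0, 0, false⟩
def f0 : Sg := ⟨0, 1, 0, false⟩
def f1 : Sg := ⟨0, w, 0, false⟩

def pT (x : Sg) : Bool := !x.e
def pE (x : Sg) : Bool := !x.e && x.b == 0
def pF (x : Sg) : Bool := !x.e && x.a == 0
def pU (x : Sg) : Bool := !x.e && x.a == 0 && x.b == 0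
def pZ (x : Sg) : Bool := !x.e && x.a == 0 && x.b == 0 && !x.c.2
def pQ (x : Sg) : Bool := x.b == cj x.a

/-- order `64`, Sylow in `L₃(4)` -/
def T0 : Subgroup Sg := sub pT (by decide) (by decide +kernel) (by decide +kernel)
/-- the two elementary abelian subgroups of order `16` -/
def E0 : Subgroup Sg := sub pE (by decide) (by decide +kernel) (by decide +kernel)
def F0 : Subgroup Sg := sub pF (by decide) (by decide +kernel) (by decide +kernel)
/-- the centre `{1, z, v, v z}` of `T0` -/
def U0 : Subgroup Sg := sub pU (by decide) (by decide +kernel) (by decide +kernel)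
/-- the centre `{1, z}` -/
def Z0 : Subgroup Sg := sub pZ (by decide) (by decide +kernel) (by decide +kernel)
/-- extraspecial of order `32` and minus type -/
def Q0 : Subgroup Sg := sub pQ (by decide) (by decide +kernel) (by decide +kernel)

instance : DecidablePred (· ∈ T0) := fun x => inferInstanceAs (Decidable (pT x = true))
instance : DecidablePred (· ∈ E0) := fun x => inferInstanceAs (Decidable (pE x = true))
instance : DecidablePred (· ∈ F0) := fun x => inferInstanceAs (Decidable (pF x = true))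
instance : DecidablePred (· ∈ U0) := fun x => inferInstanceAs (Decidable (pU x = true))
instance : DecidablePred (· ∈ Z0) := fun x => inferInstanceAs (Decidable (pZ x = true))
instance : DecidablePred (· ∈ Q0) := fun x => inferInstanceAs (Decidable (pQ x = true))

theorem card_sub (A : Subgroup Sg) [DecidablePred (· ∈ A)] : Nat.card A = (all.filter (· ∈ A)).length := by
  rw [Nat.card_eq_fintype_card, Fintype.card_subtype, ← List.toFinset_card_of_nodup
    (List.Nodup.filter _ (by decide +kernel))]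
  exact congrArg Finset.card (Finset.ext fun x => by simp [Sg.mem_all])

theorem card_T0 : Nat.card T0 = 64 := by rw [card_sub]; decide +kernel
theorem card_E0 : Nat.card E0 = 16 := by rw [card_sub]; decide +kernel
theorem card_F0 : Nat.card F0 = 16 := by rw [card_sub]; decide +kernel
theorem card_U0 : Nat.card U0 = 4 := by rw [card_sub]; decide +kernel
theorem card_Z0 : Nat.card Z0 = 2 := by rw [card_sub]; decide +kernel
theorem card_Q0 : Nat.card Q0 = 32 := by rw [card_sub]; decide +kernel

theorem mem_U0 : ∀ x, x ∈ U0 ↔ x = 1 ∨ x = z0 ∨ x = v0 ∨ x = v0 * z0 := by decide +kernel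
theorem mem_Z0 : ∀ x, x ∈ Z0 ↔ x = 1 ∨ x = z0 := by decide +kernel
theorem z0_cen : ∀ x, x * z0 = z0 * x := by decide +kernel
theorem cen_iff : ∀ x : Sg, (∀ y, y * x = x * y) ↔ x ∈ Z0 := by decide +kernel
theorem sqz : ∀ x : Sg, x * x = z0 → x ∈ Q0 := by decide +kernel
/-- the involutions -/
theorem invs : ∀ x : Sg, x * x = 1 → x ∈ U0 ∨ (∃ s, s * x * s⁻¹ = u0) ∨ (x ∉ U0 ∧ (x ∈ E0 ∨ x ∈ F0)) := by
  decide +kernel

end Cfsg.Agent.JS
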