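import Cfsg.Agent.JS.P0
import Cfsg.Agent.H8.SE2

/-! # The signalizer functor and its normaliser -/

set_option autoImplicit false
set_option linter.unusedVariables false
set_option linter.unusedSectionVars false

namespace Cfsg.Agent.JS
open Cfsg Cfsg.Agent.BG Subgroup PHom
open Cfsg.Agent.Comp (QS CompIn)
open Cfsg.Agent.S3F (p2 SCl)
open Cfsg.Agent.GF (Lx Pr Cp Tr bar ih_all)

universe u

variable {G : Type u} [Group G] [Finite G] {ι : Sg →* G} {H I K P R R' U V X Y : Subgroup G} {x y : Sg}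
  {a b g w : G} {p : ℕ}

open Cfsg.Agent.G75 (Q Q_le Q_odd)
open Cfsg.Agent.SFT (Gen le_Gen Gen_le norm_Gen)

/-- the group generated by the cores of the centralisers of the involutions of `U` -/
abbrev WU (ι : Sg →* G) : Subgroup G := Gen (U0.map ι) Q
/-- the functor -/
def th (ι : Sg →* G) (e : G) : Subgroup G := Gen (U0.map ι) fun a => Q a ⊓ C1[e]

theorem cj_Gen (g : G) (V : Subgroup G) : BG.cj g (Gen V Q) ≤ Gen (BG.cj g V) Q :=
  cj_le_iff.2 (Gen_le fun a ha a1 => cj_le_iff.1 (by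
    rw [cj_Q]; exact le_Gen (mem_cj_conj.2 ha) (by simpa using a1)))

theorem N_Gen (V : Subgroup G) : N[V] ≤ N[Gen V Q] := fun g hg =>
  mem_N_of_cj_le ((cj_Gen g V).trans (by rw [cj_of_mem_N hg]))

theorem E_c (h : a ∈ E0.map ι) : E0.map ι ≤ C1[a] := (ab_E.map ι).abel.trans (C_le_C1 h)
theorem mUE : U0.map ι ≤ E0.map ι := map_mono U_E
theorem th_le (e : G) : th ι e ≤ C1[e] := Gen_le fun _ _ _ => inf_le_right
theorem n_th (h : a ∈ E0.map ι) : E0.map ι ≤ N[th ι a] :=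
  norm_Gen fun b hb _ => normI (G75.nQ (E_c (mUE hb))) (normsG (E_c h))
theorem Q_nonc : ∀ x ∈ Q0, x * x = 1 → x ∉ Z0 → (∃ s, s * x * s⁻¹ = v0) ∨ ∃ s, s * x * s⁻¹ = u0 := by
  decide +kernel

namespace TJ
variable (h : TJ ι ⊤)
include h

theorem ncU : ¬ Cyc (U0.map ι) := GF.nc_of_four (ab_U.map ι) (by rw [h.card, card_U0])

variable (zv : Cj ⊤ (ι z0) (ι v0))
include zv

theorem gen (od : PiG {2}ᶜ X) (n : E0.map ι ≤ N[X]) (k : ∀ a ∈ U0.map ι, a ≠ 1 → X ⊓ Q a ≤ Y) : X ≤ Y :=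
  cop_gen_cent1 (ab_U.map ι).abel h.ncU (mUE.trans n) ((map_pig _).coprime od) fun a ha a1 =>
    (le_inf inf_le_left (h.pU zv ha a1 inf_le_right (od.of_le inf_le_left)
      (normI n (normsG (E_c (mUE ha)))))).trans (k a ha a1)

theorem le_W (od : PiG {2}ᶜ X) (n : E0.map ι ≤ N[X]) : X ≤ WU ι :=
  h.gen zv od n fun a ha a1 => inf_le_right.trans (le_Gen ha a1)

theorem NE_W : N[E0.map ι] ≤ N[WU ι] := by
  rw [show WU ι = Gen (E0.map ι) Q from le_antisymm (Gen_le fun a ha a1 => le_Gen (mUE ha) a1)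
    (Gen_le fun a ha a1 => h.le_W zv (Q_odd a) (G75.nQ (E_c ha)))]
  exact N_Gen _

theorem sft (od : ∀ e ∈ E0.map ι, e ∉ U0.map ι → PiG {2}ᶜ (th ι e)) : PiG {2}ᶜ (WU ι) := by
  have o : ∀ e ∈ E0.map ι, e ≠ 1 → PiG {2}ᶜ (th ι e) := fun e he e1 => by
    by_cases m : e ∈ U0.map ι
    · exact (Q_odd e).of_le (Gen_le fun a ha a1 => h.pU zv m e1 inf_le_right ((Q_odd a).of_le inf_le_left)
        (normI (G75.nQ (E_c (mUE ha))) (normsG (E_c he))))
    · exact od e he m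
  refine (SFT.famp (SFT.complete (θ := th ι) ⟨abelem_iff.1 (ab_E.map ι), fun e _ _ => th_le e,
    fun e he e1 => (pin_compl_cop p2).1 (o e he e1), fun e he _ => n_th he, fun e he e1 f hf f1 => ?_,
    fun e he e1 => H8.sol_of_odd (o e he e1)⟩ (by rw [h.card, card_E0]; omega))).of_le
    (Gen_le fun a ha a1 => le_trans ?_ (le_Gen (mUE ha) a1))
  · exact h.gen zv ((o e he e1).of_le inf_le_left) (normI (n_th he) (normsG (E_c hf))) fun a ha a1 =>
      le_trans (le_inf inf_le_right (inf_le_left.trans inf_le_right)) (le_Gen (θ := fun a => Q a ⊓ C1[f]) ha a1)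
  · exact le_trans (le_inf le_rfl (Q_le a)) (le_Gen (θ := fun b => Q b ⊓ C1[a]) ha a1)

variable (uv : Cj C1[ι z0] (ι u0) (ι v0)) (od : PiG {2}ᶜ (WU ι))
include uv od

theorem gW (hg : g ∈ C1[ι z0]) (e : g * ι v0 * g⁻¹ = ι u0) : g ∈ N[WU ι] := by
  have nS : ι.range ≤ N[WU ι] := (rg_norm n_U).trans (N_Gen _)
  have ez : g * ι z0 * g⁻¹ = ι z0 := mul_inv_eq_iff_eq_mul.2 (mem_C1.1 hg)
  have k : WU ι ⊓ C1[ι u0] ≤ Q (ι u0) := h.pu ((uv.mono le_top).trans zv.symm) inf_le_right (od.of_le inf_le_left)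
    (normI ((map_le _).trans nS) (normsG (map_C1 _)))
  have lS : BG.cj g (U0.map ι) ≤ ι.range := fun a ha => by
    obtain ⟨b, c, rfl⟩ := exists_of_mem_cj ha
    by_cases b1 : b = 1
    · simp [b1]
    rcases mem_U c b1 with rfl | rfl | rfl
    · exact ez.symm ▸ mem_rg _
    · exact e.symm ▸ mem_rg _
    · rw [show g * ι (v0 * z0) * g⁻¹ = g * ι v0 * g⁻¹ * (g * ι z0 * g⁻¹) by rw [map_mul]; group, e, ez]
      exact mul_mem (mem_rg _) (mem_rg _)
  have l : WU ι ≤ Gen (BG.cj g (U0.map ι)) Q := by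
    refine cop_gen_cent1 ((ab_U.map ι).cj g).abel (fun c => h.ncU (cyc_cj.1 c)) (lS.trans nS)
      (((map_pig _).cj g).coprime od) fun a ha a1 => le_trans ?_ (le_Gen ha a1)
    obtain ⟨b, c, rfl⟩ := exists_of_mem_cj ha
    rcases mem_U c (by simpa using a1) with rfl | rfl | rfl
    · rw [ez]
      exact h.pz big_T inf_le_right (od.of_le inf_le_left)
        (normI ((map_le _).trans nS) (normsG ((map_le _).trans rg_cen)))
    · exact e.symm ▸ k
    · have i : g * ι (v0 * z0) * g⁻¹ = ι v0 * ι u0 * (ι v0)⁻¹ := by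
        rw [show g * ι (v0 * z0) * g⁻¹ = g * ι v0 * g⁻¹ * (g * ι z0 * g⁻¹) by rw [map_mul]; group, e, ez,
          ← map_inv, ← map_mul, ← map_mul, ← map_mul]
        exact congrArg ι (by decide)
      rw [i, ← cj_Q, ← cj_C1, ← cj_of_mem_N (nS (mem_rg v0)), ← cj_inf]
      exact cj_mono _ k
  have := (cj_mono g⁻¹ l).trans (cj_Gen _ _)
  rw [cj_inv_cj] at this
  exact inv_mem_iff.1 (mem_N_of_cj_le this)

theorem cW : C1[ι z0] ≤ N[WU ι] := by
  have h' := h.sub rg_cen le_top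
  refine (h'.normQ le_rfl).trans (sup_le ((le_Gen (θ := Q) (mem_im z_U) (h.ne_one (by decide))).trans (normG _))
    fun k hk => ?_)
  obtain ⟨x, a, e⟩ := conj_mem hk.2 (mem_im (U_Q v_U))
  have nS : ι.range ≤ N[WU ι] := (rg_norm n_U).trans (N_Gen _)
  have ez : ∀ {g}, g ∈ C1[ι z0] → g * ι z0 * g⁻¹ = ι z0 := fun hg => mul_inv_eq_iff_eq_mul.2 (mem_C1.1 hg)
  have i : ∀ s, ι s * k * ι v0 * (ι s * k)⁻¹ = ι (s * x * s⁻¹) := fun s => by
    rw [map_mul, map_mul, map_inv, e]; group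
  rcases Q_nonc x a (h.inj (by rw [map_mul, map_one]; exact cjsq e.symm (by decide))) (fun m => by
    rcases (mem_Z0 x).1 m with rfl | rfl
    · exact h.ne_one (show v0 ≠ 1 by decide) (by simpa using e.symm)
    · exact absurd (h.inj (show ι z0 = ι v0 by simpa using (ez hk.1).trans e)) (by decide)) with ⟨s, b⟩ | ⟨s, b⟩
  · refine (mul_mem_cancel_left (nS (mem_rg s))).1 (N_Gen _ (mem_N_of fun a ha => ?_))
    by_cases a1 : a = 1
    · simp [a1]
    have j := ez (mul_mem (rg_cen (mem_rg s)) hk.1)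
    rcases mem_U ha a1 with rfl | rfl | rfl
    · exact j.symm ▸ ha
    · rw [i, b]; exact ha
    · rw [show ι s * k * ι (v0 * z0) * (ι s * k)⁻¹ = ι s * k * ι v0 * (ι s * k)⁻¹ * (ι s * k * ι z0 * (ι s * k)⁻¹) by
        rw [map_mul]; group, i, b, j, ← map_mul]
      exact ha
  · exact (mul_mem_cancel_left (nS (mem_rg s))).1
      (h.gW zv uv od (mul_mem (rg_cen (mem_rg s)) hk.1) ((i s).trans (congrArg ι b)))

end TJ

end Cfsg.Agent.JS
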