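import Cfsg.Agent.JS.Sig
import Cfsg.Agent.ZD.Fin

/-! # Subgroups containing `C(z)` and `N(U)` -/

set_option autoImplicit false
set_option linter.unusedVariables false
set_option linter.unusedSectionVars false

namespace Cfsg.Agent.JS
open Cfsg Cfsg.Agent.BG Subgroup PHom
open Cfsg.Agent.Comp (QS CompIn)
open Cfsg.Agent.S3F (p2 SCl)
open Cfsg.Agent.GF (Lx Pr Cp Tr bar ih_all)

universe u

variable {G : Type u} [Group G] [Finite G] {ι : Sg →* G} {H I K P R R' U V X Y : Subgroup G} {x y : Sg}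
  {a b g w : G} {p : ℕ}

variable {M N : Subgroup G}

theorem cj_F : BG.cj (ι u0) (F0.map ι) ≤ E0.map ι := fun a ha => by
  obtain ⟨_, ⟨x, b, rfl⟩, rfl⟩ := exists_of_mem_cj ha
  rw [← map_inv, ← map_mul, ← map_mul]
  exact mem_im ((by decide +kernel : ∀ x ∈ F0, u0 * x * u0⁻¹ ∈ E0) x b)
def u1 : Sg := q0 * f0 * u0 * (q0 * f0)⁻¹
theorem cen_inv : ∀ t : Sg, (∀ x ∈ Q0, x * x = 1 → x * t = t * x) → t ∈ Z0 := by decide +kernel

theorem Cj.of_eq (h : Cj H a b) (c : C1[a] ≤ H) (e : g * a * g⁻¹ = b) : g ∈ H := by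
  obtain ⟨k, hk, f⟩ := h
  refine (mul_mem_cancel_left (inv_mem hk)).1 (c (mem_C1.2 ?_))
  calc k⁻¹ * g * a = k⁻¹ * (g * a * g⁻¹) * g := by group
    _ = _ := by rw [e, ← f]; group

namespace TJ
variable (h : TJ ι ⊤) (zv : Cj ⊤ (ι z0) (ι v0)) (uv : Cj C1[ι z0] (ι u0) (ι v0)) (m1 : C1[ι z0] ≤ M)
  (m2 : N[U0.map ι] ≤ M)
include h zv uv m1 m2

theorem ctrl (x2 : x * x = 1) (x1 : x ≠ 1) (q : x ∈ Q0) : Cj M (ι z0) (ι x) := by
  have h' := h.sub (rg_cen.trans m1) le_top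
  have k := (h.trU zv (mem_im v_U) (h.ne_one (by decide))).mono (inf_le_right.trans (h.NT_NU.trans m2))
  by_cases c : x ∈ Z0
  · rw [((mem_Z0 x).1 c).resolve_left x1]; exact Cj.refl _ _
  rcases Q_nonc x q x2 c with a | a
  · exact k.trans (h'.cj' a).symm
  · exact (k.trans (uv.mono m1).symm).trans (h'.cj' a).symm

theorem top1 (m3 : N[E0.map ι] ≤ M) (one : ∀ x ∈ E0, x ∉ U0 → Cj ⊤ (ι x) (ι z0)) : M = ⊤ := by
  have h' := h.sub (rg_cen.trans m1) le_top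
  have kE : ∀ x ∈ E0, x ∉ U0 → Cj M (ι z0) (ι x) := fun x a b => by
    obtain ⟨g, -, e, l⟩ := h.toZ (one x a b)
    have c : C1[x] = E0 := (eq_of_card_le (ab_E.abel.trans (C_le_C1 a))
      (by rw [cardC ((pow_two x).symm.trans (ab_E.pow x a)) b, card_E0])).symm
    rw [c] at l
    refine Cj.symm ⟨g, ?_, e⟩
    rcases h.el l ((ab_E.map ι).cj g) (by rw [card_cj, h.card, card_E0]) with i | i
    · exact m3 (mem_N_iff_cj.2 i)
    · exact (mul_mem_cancel_left (h'.mem u0)).1 (m3 (mem_N_of_cj_le (by rw [cj_mul, i]; exact cj_F)))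
  refine H8SE.se_top h.ordz (h'.mem _) (fun g e => m1 (mem_C1.2 e)) (fun s s2 e => ?_)
    (h.ord (x := u0) (by decide) (by decide)) (h.ord (x := u1) (by decide) (by decide)) (h'.mem _) (h'.mem _)
    (by rw [← map_mul, ← map_mul]; exact congrArg ι (by decide))
  obtain ⟨x, x2, c⟩ := h'.inv_in (m1 (mem_C1.2 e)) (H8.sq_of_order s2)
  refine Cj.trans ?_ c.symm
  have x1 : x ≠ 1 := by
    rintro rfl
    obtain ⟨k, -, c⟩ := c
    rw [show s = 1 by simpa using c] at s2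
    simp at s2
  by_cases q : x ∈ Q0
  · exact h.ctrl zv uv m1 m2 x2 x1 q
  obtain ⟨y, a, b, d⟩ := (by decide +kernel : ∀ x : Sg, x * x = 1 → x ∉ Q0 →
    ∃ y ∈ E0, y ∉ U0 ∧ ∃ s, s * y * s⁻¹ = x) x x2 q
  exact (kE y a b).trans (h'.cj' d)

theorem top2 (o : O[{2}ᶜ]((⊤ : Subgroup G)) = ⊥) (two : Two ι ⊤) : M = ⊤ := by
  have h' := h.sub (rg_cen.trans m1) le_top
  have hz := h.sub rg_cen le_top
  -- conjugates of `z` in `S` lie in `Q`
  have kQ : ∀ x, x * x = 1 → Cj ⊤ (ι z0) (ι x) → x ∈ Q0 ∧ x ≠ 1 := fun x x2 e => by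
    obtain ⟨g, a, e'⟩ := e.symm
    refine ⟨by_contra fun q => ?_, ?_⟩
    · obtain ⟨b, c⟩ := (by decide +kernel : ∀ x : Sg, x * x = 1 → x ∉ Q0 → x ∈ T0 ∧ x ∉ U0) x x2 q
      exact two x b x2 c g a z0 z_U e'
    · rintro rfl
      exact h.ne_one (show z0 ≠ 1 by decide) (by simpa using e'.symm)
  obtain ⟨N, -, n⟩ := exists_minN (K := (⊤ : Subgroup G)) (H := ⊤) (ne_bot_of_mem (mem_top _) (h.ne_one
    (show z0 ≠ 1 by decide))) (norm_top _)
  have s := h.syl.inf_norm' le_top n.norm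
  -- a nontrivial normal subgroup of `K` has even order
  have ev : ∀ K, N ≤ N[K] → K ≤ N → K ≠ ⊥ → ι.range ⊓ N ⊓ K ≠ ⊥ := fun K a b c d => c (by
    have := le_O b a (((s.inf_norm' b a).eq_bot_iff).1 d)
    rwa [G75.O_bot_of o n.norm, le_bot_iff] at this)
  have zN : ι z0 ∈ N := by
    obtain ⟨_, ⟨⟨⟨x, rfl⟩, a⟩, b⟩, c⟩ := exists_mem_ne_one (((rg_pig ι).of_le (inf_le_left (b := N))).meet_C
      (rg_pig ι) (normI (normG _) (le_top.trans n.norm)) (ne_bot_of_le_ne_bot (ev N (normG _) le_rfl n.ne) inf_le_left))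
    rcases (mem_Z0 x).1 ((cen_iff x).1 fun y => h.inj (by
      rw [map_mul, map_mul]; exact mem_C.1 b _ (mem_rg y))) with rfl | rfl
    exacts [(c (map_one ι)).elim, a]
  have cN : ∀ {a}, Cj ⊤ (ι z0) a → a ∈ N := by
    rintro _ ⟨g, a, rfl⟩
    exact conj_mem (n.norm a) zN
  have qN : ∀ x ∈ Q0, x * x = 1 → ι x ∈ N := fun x q x2 => by
    by_cases x1 : x = 1
    · rw [x1, map_one]; exact one_mem _
    · exact cN ((h.ctrl zv uv m1 m2 x2 x1 q).mono le_top)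
  have ZS : ∀ w ∈ Z[ι.range ⊓ N], w ≠ 1 → w = ι z0 := by
    rintro _ ⟨⟨⟨x, rfl⟩, -⟩, b⟩ c
    rcases (mem_Z0 x).1 (cen_inv x fun y q y2 => h.inj (by
      rw [map_mul, map_mul]; exact mem_C.1 b _ ⟨mem_rg y, qN y q y2⟩)) with rfl | rfl
    exacts [(c (map_one ι)).elim, rfl]
  have zZ : ι z0 ∈ Z[ι.range ⊓ N] := ⟨⟨mem_rg _, zN⟩, le_C1_iff.1 (inf_le_left.trans rg_cen)⟩
  have fr : IsProd N C1[ι z0] ⊤ := (Syl.frattini s p2 le_top n.norm).mono le_rfl (fun g a => mem_C1.2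
    (mul_inv_eq_iff_eq_mul.1 (ZS _ (conj_mem (normZ le_rfl a.2) zZ) (by simpa using h.ne_one (x := z0) (by decide)))))
    le_top le_top
  have cN' : ∀ g : G, ∃ k ∈ N, k * ι z0 * k⁻¹ = g * ι z0 * g⁻¹ := fun g => by
    obtain ⟨k, a, c, b, rfl⟩ := fr.ex g (mem_top g)
    exact ⟨k, a, by rw [show k * c * ι z0 * (k * c)⁻¹ = k * (c * ι z0 * c⁻¹) * k⁻¹ by group, mem_C1.1 b]; group⟩
  have si : IsSimpleGroup N := by
    refine { exists_pair_ne := ⟨⟨_, zN⟩, 1, fun e => h.ne_one (show z0 ≠ 1 by decide) (congrArg Subtype.val e)⟩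
             eq_bot_or_eq_top_of_normal := fun K hK => or_iff_not_imp_left.2 fun k => ?_ }
    have a : N ≤ N[K.map N.subtype] := (map_subtype_top N).ge.trans (norm_map (norm_of_normal ⊤) _)
    have b : K.map N.subtype ≤ N := map_subtype_le K
    obtain ⟨w, ⟨c, d⟩, e⟩ := exists_mem_ne_one ((s.pi.of_le (inf_le_left (b := K.map N.subtype))).meet_C s.pi
      (normI (normG _) (inf_le_right.trans a)) (ev _ a b fun e => k ((map_eq_bot_iff_of_injective _ N.subtype_injective).1 e)))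
    have zK : ι z0 ∈ K.map N.subtype := ZS w ⟨c.1, d⟩ e ▸ c.2
    have l : normalClosure {ι z0} ≤ K.map N.subtype := (closure_le _).2 fun y hy => by
      obtain ⟨_, rfl, i⟩ := Group.mem_conjugatesOfSet_iff.1 hy
      obtain ⟨g, rfl⟩ := isConj_iff.1 i
      obtain ⟨k, j, m⟩ := cN' g
      exact m ▸ conj_mem (a j) zK
    have := n.min _ (l.trans b) (norm_of_normal _) (ne_bot_of_mem (subset_normalClosure rfl) (h.ne_one (by decide)))
    exact map_injective N.subtype_injective (le_antisymm (map_mono le_top)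
      ((map_subtype_top N).le.trans (this.ge.trans l)))
  refine top_le_iff.1 (fr.sup.ge.trans (sup_le (by_contra fun nl => ?_) m1))
  have inM : ∀ g : G, g * ι z0 * g⁻¹ ∈ M → g ∈ M := fun g a => by
    obtain ⟨x, x2, c⟩ := h'.inv_in a (cjsq rfl (by decide))
    obtain ⟨q, x1⟩ := kQ x x2 (Cj.trans ⟨g, mem_top g, rfl⟩ (c.mono le_top))
    exact Cj.of_eq ((h.ctrl zv uv m1 m2 x2 x1 q).trans c.symm) m1 rfl
  have se : IsStronglyEmbedded (M.subgroupOf N) := by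
    refine ZD.s1175 (z := ⟨_, zN⟩) (S := (ι.range ⊓ N).subgroupOf N) (fun e => nl (subgroupOf_eq_top.1 e))
      (by rw [← orderOf_coe]; exact h.ordz) (h'.mem _) (by rw [← rst_im, ← rst_im_self N]; exact s.im le_rfl)
      (fun a b => mem_C1.2 (Subtype.ext (mem_C1.1 (rg_cen b.1)))) (fun g a => inM g a) fun g a b c d => ?_
    obtain ⟨x, x2, k, i, j⟩ := hz.inv_in (w := g * ι z0 * g⁻¹) (mem_C1'.2 (congrArg Subtype.val a))
      (cjsq rfl (by decide))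
    obtain ⟨q, x1⟩ := kQ x x2 (Cj.trans ⟨g, mem_top _, rfl⟩ ⟨k, mem_top _, j⟩)
    have ek : ∀ {g}, g ∈ C1[ι z0] → g * ι z0 * g⁻¹ = ι z0 := fun hg => mul_inv_eq_iff_eq_mul.2 (mem_C1.1 hg)
    obtain ⟨r, r1, r2⟩ : Cj C1[ι z0] (g * ι z0 * g⁻¹) (ι v0) := by
      refine Cj.trans ⟨k, i, j⟩ ?_
      rcases Q_nonc x q x2 (fun m => by
        rw [((mem_Z0 x).1 m).resolve_left x1] at j
        exact b (Subtype.ext (by simpa using j.trans (ek i).symm))) with f | f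
      exacts [hz.cj' f, (hz.cj' f).trans uv]
    obtain ⟨t, t1, t2⟩ := h.trU zv (mem_im vz_U) (h.ne_one (by decide))
    have : r * c * r⁻¹ ∈ C1[t * ι z0 * t⁻¹] := by
      rw [t2, show ι (v0 * z0) = r * (ι z0 * (g * ι z0 * (g : G)⁻¹)) * r⁻¹ by
        rw [show v0 * z0 = z0 * v0 by decide, map_mul, ← r2, show r * (ι z0 * (g * ι z0 * (g : G)⁻¹)) * r⁻¹ =
          r * ι z0 * r⁻¹ * (r * (g * ι z0 * (g : G)⁻¹) * r⁻¹) by group, ek r1]; rfl, ← cj_C1, mem_cj_conj]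
      exact mem_C1.2 (congrArg Subtype.val (mem_C1.1 d))
    rw [← cj_C1] at this
    have := cj_le_of_mem m1 (normG _ (m2 (h.NT_NU t1.2))) this
    exact (mul_mem_cancel_left (m1 r1)).1 ((mul_mem_cancel_right (inv_mem (m1 r1))).1 this)
  have o2 : ∀ x (a : ι x ∈ N), x * x = 1 → x ≠ 1 → orderOf (⟨ι x, a⟩ : N) = 2 := fun x a b c => by
    rw [← orderOf_coe]; exact h.ord b c
  refine se.1 (H8SE.se_top (t := ⟨_, zN⟩) (a := ⟨_, qN u0 (by decide) (by decide)⟩)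
    (b := ⟨_, qN u1 (by decide) (by decide)⟩) (o2 _ _ (by decide) (by decide)) (h'.mem _)
    (fun g e => m1 (mem_C1.2 (congrArg Subtype.val e))) (fun s s2 e => ?_) (o2 _ _ (by decide) (by decide))
    (o2 _ _ (by decide) (by decide)) (h'.mem _) (h'.mem _) (Subtype.ext (by
      show ι u0 * ι u1 * (ι u0 * ι u1) = ι z0
      rw [← map_mul, ← map_mul]; exact congrArg ι (by decide))))
  obtain ⟨g, rfl⟩ := isConj_iff.1 (Inv.se_isConj se (o2 _ zN (by decide) (by decide)) s2)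
  exact ⟨g, inM g (m1 (mem_C1.2 (congrArg Subtype.val e))), rfl⟩

end TJ

end Cfsg.Agent.JS
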