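import Cfsg.Agent.JS.Top
import Cfsg.Agent.JS.Ce
import Cfsg.Agent.Gs.Ben

/-! # Transitivity on the maximal `T`-invariant `p`-subgroups; the functor has odd values -/

set_option autoImplicit false
set_option linter.unusedVariables false
set_option linter.unusedSectionVars false

namespace Cfsg.Agent.JS
open Cfsg Cfsg.Agent.BG Subgroup PHom
open Cfsg.Agent.Comp (QS CompIn)
open Cfsg.Agent.S3F (p2 SCl)
open Cfsg.Agent.GF (Lx Pr Cp Tr bar ih_all)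

universe u

variable {G : Type u} [Group G] [Finite G] {ι : Sg →* G} {H I K P R R' U V X Y : Subgroup G} {x y : Sg}
  {a b g w : G} {p : ℕ}

open Cfsg.Agent.G75 (Q Q_le Q_odd)
open Cfsg.Agent.SFT (Gen le_Gen Gen_le norm_Gen)
open Cfsg.Agent.Gs (MX exists_MX)

/-- `S`-invariant odd order subgroups of proper overgroups of `S` lie in the core -/
def Sub (S : Subgroup G) : Prop := ∀ K, K ≠ ⊤ → S ≤ K → ∀ X ≤ K, PiG {2}ᶜ X → S ≤ N[X] → X ≤ O[{2}ᶜ](K)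

theorem mx_trans {S : Subgroup G} (pS : PiG {2} S) (o : O[{2}ᶜ]((⊤ : Subgroup G)) = ⊥) (sub : Sub S) (hp : p.Prime)
    (p2 : p ≠ 2) (D : Subgroup G) : D ≠ ⊥ → ∀ X Y, MX p S X → MX p S Y → D ≤ X ⊓ Y → ∃ n ∈ C[S], BG.cj n X = Y := by
  induction D using gt_wf_ind with | h D ih => ?_
  intro D0 X Y hX hY le
  rcases le.eq_or_lt with rfl | lt
  swap
  · exact ih _ lt (ne_bot_of_gt lt) X Y hX hY le_rfl
  by_cases e : X = Y
  · exact ⟨1, one_mem _, by rw [cj_one, e]⟩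
  have nD := normI hX.n hY.n
  have N0 : N[X ⊓ Y] ≠ ⊤ := fun c => D0 (le_bot_iff.1 (o ▸ le_O le_top c.ge ((hX.pi.of_le inf_le_left).ne_compl p2)))
  have nO := nD.trans (O_norm {2}ᶜ _)
  have key : ∀ X', MX p S X' → X ⊓ Y < X' → ∃ P, Syl p P O[{2}ᶜ](N[X ⊓ Y]) ∧ S ≤ N[P] ∧
      X ⊓ Y < X' ⊓ P := fun X' hX' lt => by
    have n := normI hX'.n (normN nD)
    have pi := hX'.pi.of_le (inf_le_left : X' ⊓ N[X ⊓ Y] ≤ _)
    obtain ⟨P, h1, h2, h3⟩ := cop_syl_superset nO (pS.coprime (O_pig _ _)) (Or.inl pS.sol) hp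
      (sub _ N0 nD _ inf_le_right (pi.ne_compl p2) n) pi n
    exact ⟨P, h1, h2, (hX'.pi.nil.lt_norm lt).trans_le (le_inf inf_le_left h3)⟩
  obtain ⟨P, p1, p3, p4⟩ := key X hX (lt_of_le_of_ne inf_le_left fun e' =>
    e (hX.max Y hY.pi hY.n (inf_eq_left.1 e')).symm)
  obtain ⟨Q, q1, q3, q4⟩ := key Y hY (lt_of_le_of_ne inf_le_right fun e' =>
    e (hY.max X hX.pi hX.n (inf_eq_right.1 e')))
  obtain ⟨c, hc, rfl⟩ := cop_syl_conj nO (pS.coprime (O_pig _ _)) (Or.inl pS.sol) hp p1 q1 p3 q3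
  obtain ⟨Z, z1, z2⟩ := exists_MX p1.pi p3
  obtain ⟨m, hm, rfl⟩ := ih _ p4 (ne_bot_of_gt p4) X Z hX z2 (inf_le_inf_left _ z1)
  obtain ⟨k, hk, e⟩ := ih _ q4 (ne_bot_of_gt q4) _ Y (z2.cj (C_le_N _ hc.2)) hY
    (le_inf (inf_le_right.trans (map_mono z1)) inf_le_left)
  exact ⟨k * (c * m), mul_mem hk (mul_mem hc.2 hm), by rw [cj_mul, cj_mul, e]⟩

theorem syl_inf (s : Syl p R K) (l : R ≤ P) (pi : PiG {p} P) : Syl p (P ⊓ K) K :=
  s.of_card_le inf_le_right (pi.of_le inf_le_left) (card_le (le_inf l s.le))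

/-- the failure of balance at `p` -/
def Bad (U : Subgroup G) (e a : G) (p : ℕ) : Prop := ∀ R, Syl p R (Q a ⊓ C1[e]) → U ≤ N[R] → ¬ ⁅R, U⁆ ≤ Q e

theorem Bad.cj (h : Bad U w a p) (hg : g ∈ C1[w] ⊓ N[U]) : Bad U w (g * a * g⁻¹) p := fun R r1 r2 r3 => by
  have n : g⁻¹ ∈ N[U] := inv_mem hg.2
  refine h (BG.cj g⁻¹ R) ?_ (cj_of_mem_N n ▸ norm_cj.2 r2) ?_
  · have := r1.cj g⁻¹
    rwa [cj_inf, ← cj_Q, cj_inv_cj, cj_of_mem (inv_mem hg.1)] at this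
  · rw [← cj_of_mem_N n, ← cj_comm]
    exact cj_le_of_mem r3 (G75.nQ le_rfl (inv_mem hg.1))

namespace TJ
variable (h : TJ ι ⊤) (zv : Cj ⊤ (ι z0) (ι v0)) (uv : Cj C1[ι z0] (ι u0) (ι v0))
include h uv

theorem dvdU (hp : p.Prime) (d : p ∣ #(Q (ι z0))) : p ∣ #(Q (ι z0) ⊓ C1[ι v0]) := by_contra fun n => by
  have hz := h.sub rg_cen le_top
  obtain ⟨P, s, nP⟩ := cop_syl_exists (G75.nQ (rg_cen (ι := ι))) ((rg_pig ι).coprime (Q_odd _)) (.inl (rg_pig ι).sol) hp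
  obtain ⟨k, k1, k2⟩ := exists_mem_ne_one (Syl.ne_bot' s hp d)
  have inv : ∀ x ∈ Q0, x * x = 1 → x ∉ Z0 → ∀ k ∈ P, ι x * k * (ι x)⁻¹ = k⁻¹ := fun x a b c => by
    refine (Core.inv_of_fpf_involution (nP (mem_rg x)) (by rw [← map_mul, b, map_one]) ?_).1
    obtain ⟨g, i, j⟩ : Cj C1[ι z0] (ι x) (ι v0) := (Q_nonc x a b c).elim hz.cj' fun f => (hz.cj' f).trans uv
    rw [← cj_eq_bot (g := g)]
    refine ((s.pi.of_le inf_le_left).cj g).eq_bot (PiG.of_le ((pin_compl hp).2 n) ?_)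
    rw [cj_inf, cj_C1, j]
    exact inf_le_inf_right _ (cj_le_of_mem s.le (G75.nQ le_rfl i))
  have a1 := inv v0 (by decide) (by decide) (by decide) k k1
  have a2 := inv u0 (by decide) (by decide) (by decide) _ (inv_mem k1)
  have a3 := inv (e0 * u0 * e0⁻¹) (by decide) (by decide) (by decide) k k1
  have a4 := inv (e1 * u0 * e1⁻¹) (by decide) (by decide) (by decide) _ (inv_mem k1)
  have a5 := inv (e0 * e1 * u0 * (e0 * e1)⁻¹) (by decide) (by decide) (by decide) k k1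
  rw [inv_inv] at a2 a4
  have m : ι (e0 * e1 * u0 * (e0 * e1)⁻¹ * (e1 * u0 * e1⁻¹) * (e0 * u0 * e0⁻¹) * u0 * v0) ∈ zpowers (ι z0) :=
    map_Z (ι := ι) ▸ mem_im (by decide)
  have c := mem_C1.1 (C1_le_of_mem_zpowers m (Q_le _ (s.le k1)))
  generalize e0 * e1 * u0 * (e0 * e1)⁻¹ = x5 at *
  generalize e1 * u0 * e1⁻¹ = x4 at *
  generalize e0 * u0 * e0⁻¹ = x3 at *
  have e : ι (x5 * x4 * x3 * u0 * v0) * k * (ι (x5 * x4 * x3 * u0 * v0))⁻¹ = k⁻¹ := by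
    rw [show ι (x5 * x4 * x3 * u0 * v0) * k * (ι (x5 * x4 * x3 * u0 * v0))⁻¹ = ι x5 * (ι x4 * (ι x3 * (ι u0 *
      (ι v0 * k * (ι v0)⁻¹) * (ι u0)⁻¹) * (ι x3)⁻¹) * (ι x4)⁻¹) * (ι x5)⁻¹ by simp only [map_mul]; group,
      a1, a2, a3, a4, a5]
  rw [← c, mul_inv_cancel_right] at e
  exact k2 ((pie_of_pow p2 (by rw [pow_two]; exact mul_eq_one_iff_eq_inv.2 e)).eq_one ((Q_odd _).elt (s.le k1)))

variable (o : O[{2}ᶜ]((⊤ : Subgroup G)) = ⊥) (sub : Sub (T0.map ι))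
include zv o sub

theorem exP (hp : p.Prime) (p2 : p ≠ 2) : ∃ P, PiG {p} P ∧ T0.map ι ≤ N[P] ∧ Syl p (P ⊓ Q (ι z0)) (Q (ι z0)) ∧
    Syl p (P ⊓ Q (ι v0)) (Q (ι v0)) := by
  have pT := map_pig (ι := ι) T0
  have cz := T_c (ι := ι) (mem_im z_U)
  have cv := T_c (ι := ι) (mem_im v_U)
  by_cases d : p ∣ #(Q (ι z0))
  · have od := (Q_odd (ι z0)).of_le (inf_le_left (b := C1[ι v0]))
    have n := normI (G75.nQ cz) (normsG cv)
    obtain ⟨D, d1, d2⟩ := cop_syl_exists n (pT.coprime od) (.inl pT.sol) hp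
    obtain ⟨P1, a1, a2, a3⟩ := cop_syl_superset (G75.nQ cz) (pT.coprime (Q_odd _)) (.inl pT.sol) hp
      (d1.le.trans inf_le_left) d1.pi d2
    obtain ⟨P2, b1, b2, b3⟩ := cop_syl_superset (G75.nQ cv) (pT.coprime (Q_odd _)) (.inl pT.sol) hp
      (d1.le.trans (h.pU zv (mem_im v_U) (h.ne_one (by decide)) inf_le_right od ((map_mono E_T).trans n))) d1.pi d2
    obtain ⟨M1, c1, c2⟩ := exists_MX a1.pi a2
    obtain ⟨M2, e1, e2⟩ := exists_MX b1.pi b2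
    obtain ⟨k, f, rfl⟩ := mx_trans pT o sub hp p2 D (Syl.ne_bot' d1 hp (h.dvdU uv hp d)) M1 M2 c2 e2
      (le_inf (a3.trans c1) (b3.trans e1))
    exact ⟨_, e2.pi, e2.n, syl_inf (a1.cj_norm (G75.nQ (C_le_C1 (mem_im (U_T z_U))) f)) (cj_mono _ c1) e2.pi,
      syl_inf b1 e1 e2.pi⟩
  · obtain ⟨g, -, e⟩ := zv
    refine ⟨⊥, pig_bot _, norm_bot _, ?_, ?_⟩ <;> rw [bot_inf_eq] <;> refine hall_bot ((pin_compl hp).2 ?_)
    · exact d
    · rwa [← e, ← cj_Q, card_cj]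

theorem thOdd (two : Two ι ⊤) (hw : w ∈ E0.map ι) (n : w ∉ U0.map ι) : PiG {2}ᶜ (th ι w) := by
  obtain ⟨x, xE, rfl⟩ := hw
  have xU : x ∉ U0 := fun c => n (mem_im c)
  have x2 : x * x = 1 := (pow_two x).symm.trans (ab_E.pow x xE)
  have cE := E_c (mem_im (ι := ι) xE)
  have cU := mUE.trans cE
  have pU := map_pig (ι := ι) U0
  have sy : Syl 2 (E0.map ι) C1[ι x] := by
    obtain ⟨R, r1, r2⟩ := syl_superset p2 cE (map_pig _)
    obtain ⟨g, -, l⟩ := h.cj_sub le_top r1.pi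
    obtain ⟨y, e⟩ := l (mem_cj_conj.2 (r2 (mem_im xE)))
    have := card_le ((le_inf l (show BG.cj g R ≤ C1[ι y] by rw [e, ← cj_C1]; exact cj_mono _ r1.le)).trans
      (h.inf_C1 y).le)
    rw [card_cj, h.card, cardC (h.inj (by rw [map_mul, map_one]; exact cjsq e.symm x2))
      fun c => two x (E_T xE) x2 xU g (mem_top _) y c e.symm] at this
    exact eq_of_card_le r2 (by rw [h.card, card_E0]; exact this) ▸ r1
  have sc : SCl C1[ι x] (U0.map ι) := GF.scl_syl sy (by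
    rintro _ ⟨y, a, rfl⟩ g - ⟨t, b, e⟩
    exact e ▸ mem_im (by_contra fun c => two t (E_T b) ((pow_two t).symm.trans (ab_E.pow t b)) c g⁻¹ (mem_top _) y a
      (by rw [e]; group)))
  have c4 : #(U0.map ι) = 4 := (h.card _).trans card_U0
  have oY : ∀ a, PiG {2}ᶜ (Q a ⊓ C1[ι x]) := fun a => (Q_odd a).of_le inf_le_left
  have nY : ∀ a ∈ U0.map ι, U0.map ι ≤ N[Q a ⊓ C1[ι x]] := fun a ha =>
    normI (G75.nQ (mUE.trans (E_c (mUE ha)))) (normsG cU)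
  have key : ∀ a ∈ U0.map ι, a ≠ 1 → ⁅Q a ⊓ C1[ι x], U0.map ι⁆ ≤ Q (ι x) := fun a ha a1 => by_contra fun c => by
    obtain ⟨L, X, pr, -⟩ := GF.Lx.syl_of ⟨ih_all _, Nat.lt_succ_self _, ab_U.map ι, cU, sc⟩ c4 inf_le_right (oY a)
      (nY a ha) c
    obtain ⟨p, hp, d, bad⟩ : ∃ p, p.Prime ∧ p ∣ #(Q a ⊓ C1[ι x]) ∧ Bad (U0.map ι) (ι x) a p := by
      by_contra! k
      refine c ((quo_cent_iff (G75.nQ inf_le_right) (G75.nQ cU)).1 ((le_pre_iff (G75.nQ inf_le_right)).1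
        (le_of_syl fun p hp d => ?_)))
      obtain ⟨R, r⟩ := not_forall.1 (k p hp d)
      push Not at r
      have l := G75.nQ (r.1.le.trans inf_le_right)
      exact ⟨R, r.1, (le_pre_iff l).2 ((quo_cent_iff l (G75.nQ cU)).2 r.2.2)⟩
    have p2' : p ≠ 2 := by
      rintro rfl
      exact (pin_compl hp).1 (oY a) d
    have all : ∀ b ∈ U0.map ι, b ≠ 1 → Bad (U0.map ι) (ι x) b p := fun b hb b1 => by
      obtain ⟨k, i, rfl⟩ := pr.tr a ha a1 b hb b1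
      exact bad.cj ⟨pr.cp.le (pr.XL i), pr.XN i⟩
    obtain ⟨P, q1, q2, q3, q4⟩ := h.exP zv uv o sub hp p2'
    have pe := pig_zpowers.2 ((rg_pig ι).elt (mem_rg x))
    have sR : ∀ b ∈ U0.map ι, Syl p (P ⊓ Q b) (Q b) → Syl p (P ⊓ Q b ⊓ C1[ι x]) (Q b ⊓ C1[ι x]) ∧
        U0.map ι ≤ N[P ⊓ Q b ⊓ C1[ι x]] := fun b hb s => by
      have n1 := normI q2 (G75.nQ (T_c hb))
      have zx : zpowers (ι x) ≤ T0.map ι := zpowers_le.2 (mem_im (E_T xE))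
      exact ⟨C_zpowers (ι x) ▸ cop_syl_cent (zx.trans (G75.nQ (T_c hb))) (pe.coprime (Q_odd _)) (.inl pe.sol) hp s
        (zx.trans n1), normI ((map_mono U_T).trans n1) (normsG cU)⟩
    have lR : ∀ b, P ⊓ Q b ⊓ C1[ι x] ≤ P ⊓ C1[ι x] ⊓ C1[b] := fun b =>
      le_inf (inf_le_inf_right _ inf_le_left) (inf_le_left.trans (inf_le_right.trans (Q_le b)))
    obtain ⟨s1, s2⟩ := sR _ (mem_im z_U) q3
    obtain ⟨s3, s4⟩ := sR _ (mem_im v_U) q4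
    exact (ce sc (ab_U.map ι) c4 cU (mem_im z_U) (mem_im v_U) (h.ne_one (by decide)) (h.ne_one (by decide))
      (fun e => absurd (h.inj e) (by decide)) inf_le_right (q1.of_le inf_le_left) p2'
      (normI ((map_mono U_T).trans q2) (normsG cU)) (lR _) (lR _) s2 s4).elim
      (all _ (mem_im z_U) (h.ne_one (by decide)) _ s1 s2) (all _ (mem_im v_U) (h.ne_one (by decide)) _ s3 s4)
  refine ((Q_odd (ι x)).sup_l ((O_pig {2}ᶜ C[U0.map ι]).of_le (inf_le_left (b := C1[ι x]))) (G75.nQ inf_le_right)).of_le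
    (Gen_le fun a ha a1 => (cop_cent_prod (nY a ha) (pU.coprime (oY a)) (.inl pU.sol)).sup.ge.trans
      (sup_le_sup (key a ha a1) (le_inf ((inf_le_inf_right _ inf_le_left).trans (O_inf_le _ (C_le_C1 ha)))
        (inf_le_left.trans inf_le_right))))

end TJ

end Cfsg.Agent.JS
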